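import Mathlib
import Groth.Prelude.Def_FlatCA
import Groth.Agent.FlatLocus.General

/-!
Slicing a flat finitely presented module by an element regular on the closed fibre:
multiplication by it is universally injective.
-/

namespace Groth.Agent.UnivInjFib

open TensorProduct Polynomial

universe u

/-- A finitely presented module over a localization comes from the original ring, compatibly
with localizing at a bigger submonoid of units. -/
theorem exists_module_model {S₀ S : Type u} [CommRing S₀] [CommRing S] [Algebra S₀ S]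
    (M₀ : Submonoid S₀) [IsLocalization M₀ S] (P : Submonoid S₀) (hP : M₀ ≤ P)
    (hu : ∀ x ∈ P, IsUnit (algebraMap S₀ S x))
    (N : Type u) [AddCommGroup N] [Module S N] [Module S₀ N] [IsScalarTower S₀ S N]
    [Module.FinitePresentation S N] :
    ∃ (N₀ : Type u) (_ : AddCommGroup N₀) (_ : Module S₀ N₀) (f : N₀ →ₗ[S₀] N),
      Module.FinitePresentation S₀ N₀ ∧ IsLocalizedModule P f := by
  classical
  obtain ⟨gens, hgens, hker⟩ := Module.FinitePresentation.out (R := S) (M := N)
  obtain ⟨rel, hrel⟩ := hker
  -- scale the relations into `S₀`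
  have hscale : ∀ v : gens →₀ S, ∃ c ∈ M₀, ∃ v₀ : gens → S₀,
      ∀ i, algebraMap S₀ S (v₀ i) = algebraMap S₀ S c * v i := by
    intro v
    obtain ⟨c, hc⟩ := IsLocalization.exist_integer_multiples_of_finite (M := M₀) (fun i => v i)
    choose v₀ hv₀ using hc
    exact ⟨c, c.2, v₀, fun i => by rw [hv₀ i]; exact Algebra.smul_def _ _⟩
  choose c hc v₀ hv₀ using hscale
  let K : Submodule S₀ (gens → S₀) := Submodule.span S₀ (rel.image v₀ : Set (gens → S₀))
  let π₀ : (gens → S₀) →ₗ[S₀] N := Fintype.linearCombination S₀ (Subtype.val : gens → N)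
  let lS := Finsupp.linearCombination S ((↑) : gens → N)
  have hl : ∀ v : gens →₀ S, lS v = ∑ i, v i • (i : N) := fun v => by
    rw [Finsupp.linearCombination_apply, Finsupp.sum_fintype]
    exact fun i => zero_smul _ _
  have hπ₀ : ∀ w : gens → S₀, π₀ w = ∑ i, algebraMap S₀ S (w i) • (i : N) := fun w => by
    simp [π₀, Fintype.linearCombination_apply]
  have hK : K ≤ LinearMap.ker π₀ := by
    rw [Submodule.span_le]
    rintro w hw
    obtain ⟨v, hv, rfl⟩ := Finset.mem_image.1 hw
    have hv' : lS v = 0 := LinearMap.mem_ker.1 (hrel ▸ Submodule.subset_span hv)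
    rw [SetLike.mem_coe, LinearMap.mem_ker, hπ₀]
    simp only [hv₀, mul_smul, ← Finset.smul_sum]
    rw [← hl, hv', smul_zero]
  let f : ((gens → S₀) ⧸ K) →ₗ[S₀] N := K.liftQ π₀ hK
  refine ⟨(gens → S₀) ⧸ K, inferInstance, inferInstance, f,
    Module.finitePresentation_of_surjective K.mkQ K.mkQ_surjective
      (by rw [Submodule.ker_mkQ]; exact ⟨_, rfl⟩), ?_⟩
  constructor
  · intro x
    rw [Module.End.isUnit_iff]
    have := (hu x.1 x.2).smul_bijective (β := N)
    convert this using 1
    ext z
    simp [Module.algebraMap_end_apply, algebraMap_smul]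
  · intro y
    have hy : y ∈ Submodule.span S (Set.range ((↑) : gens → N)) := by
      rw [Subtype.range_coe]; exact hgens ▸ Submodule.mem_top
    obtain ⟨a, ha⟩ := (Submodule.mem_span_range_iff_exists_fun S).1 hy
    obtain ⟨d, hd⟩ := IsLocalization.exist_integer_multiples_of_finite (M := M₀) a
    choose a₀ ha₀ using hd
    refine ⟨⟨K.mkQ a₀, ⟨d, hP d.2⟩⟩, ?_⟩
    show (d : S₀) • y = f (K.mkQ a₀)
    rw [show f (K.mkQ a₀) = π₀ a₀ from rfl, hπ₀, ← ha, Finset.smul_sum]
    exact Finset.sum_congr rfl fun i _ => by rw [ha₀ i, smul_assoc]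
  · intro x₁ x₂ h
    obtain ⟨w, hw⟩ := K.mkQ_surjective (x₁ - x₂)
    have h0 : π₀ w = 0 := by
      rw [show π₀ w = f (K.mkQ w) from rfl, hw, map_sub, h, sub_self]
    let wS : gens →₀ S := Finsupp.equivFunOnFinite.symm fun i => algebraMap S₀ S (w i)
    have hwS : wS ∈ Submodule.span S (rel : Set (gens →₀ S)) := by
      rw [hrel, LinearMap.mem_ker]
      show lS wS = 0
      rw [hl]
      simpa [wS, hπ₀] using h0
    obtain ⟨g, hg⟩ := Submodule.mem_span_finset'.1 hwS
    have hgu : ∀ v : {v // v ∈ rel}, ∃ e : S, e * algebraMap S₀ S (c v.1) = g v :=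
      fun v => ⟨g v * ↑(IsLocalization.map_units S ⟨c v.1, hc v.1⟩).unit⁻¹, by
        rw [mul_assoc, IsUnit.val_inv_mul, mul_one]⟩
    choose e he using hgu
    obtain ⟨d, hd⟩ := IsLocalization.exist_integer_multiples_of_finite (M := M₀) e
    choose e₀ he₀ using hd
    have heq : ∀ i, algebraMap S₀ S ((d : S₀) * w i) =
        algebraMap S₀ S (∑ v : {v // v ∈ rel}, e₀ v * v₀ v.1 i) := by
      intro i
      have := congrArg (fun z : gens →₀ S => z i) hg
      simp only [Finsupp.finsetSum_apply, Finsupp.smul_apply, smul_eq_mul, wS,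
        Finsupp.coe_equivFunOnFinite_symm] at this
      rw [map_mul, ← this, map_sum, Finset.mul_sum]
      refine Finset.sum_congr rfl fun v _ => ?_
      rw [map_mul, he₀ v, hv₀, ← he v, Algebra.smul_def]
      ring
    choose t ht using fun i => (IsLocalization.eq_iff_exists M₀ S).1 (heq i)
    let t' : S₀ := ∏ i, (t i : S₀)
    refine ⟨⟨t' * d, hP (M₀.mul_mem (M₀.prod_mem fun i _ => (t i).2) d.2)⟩, ?_⟩
    show (t' * d) • x₁ = (t' * d) • x₂
    rw [← sub_eq_zero, ← smul_sub, ← hw, ← map_smul, Submodule.mkQ_apply,
      Submodule.Quotient.mk_eq_zero]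
    have : (t' * d) • w = ∑ v : {v // v ∈ rel}, (t' * e₀ v) • v₀ v.1 := by
      funext i
      simp only [Pi.smul_apply, smul_eq_mul, Finset.sum_apply]
      have hp : t' = (∏ j ∈ Finset.univ.erase i, (t j : S₀)) * t i :=
        (Finset.prod_erase_mul _ _ (Finset.mem_univ i)).symm
      rw [hp, mul_assoc, mul_assoc]
      rw [show (t i : S₀) * ((d : S₀) * w i) =
        t i * ∑ v : {v // v ∈ rel}, e₀ v * v₀ v.1 i from ht i, Finset.mul_sum, Finset.mul_sum]
      exact Finset.sum_congr rfl fun v _ => by ring
    rw [this]
    exact Submodule.sum_mem _ fun v _ =>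
      K.smul_mem _ (Submodule.subset_span (Finset.mem_image_of_mem _ v.2))

/-- Multiplication by an element regular on the closed fibre is universally injective. -/
theorem univInj_smul {R S : Type u} [CommRing R] [IsLocalRing R] [CommRing S] [IsLocalRing S]
    [Algebra R S] [IsLocalHom (algebraMap R S)] (hS : FlatCA.EssFinitePresentation R S)
    {N : Type u} [AddCommGroup N] [Module S N] [Module R N] [IsScalarTower R S N]
    [Module.FinitePresentation S N] [Module.Flat R N]
    (s : S) (hs : ∀ n : N, s • n ∈ IsLocalRing.maximalIdeal R • (⊤ : Submodule R N) →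
      n ∈ IsLocalRing.maximalIdeal R • (⊤ : Submodule R N))
    (Q : Type u) [AddCommGroup Q] [Module R Q] :
    Function.Injective (((LinearMap.lsmul S N s).restrictScalars R).lTensor Q) := by
  classical
  by_cases hsu : IsUnit s
  · let e : N ≃ₗ[R] N := LinearEquiv.ofBijective ((LinearMap.lsmul S N s).restrictScalars R)
      hsu.smul_bijective
    exact (e.lTensor Q).injective
  obtain ⟨S₀, _, _, _, _, M₀, hfp, hloc⟩ := hS
  let q : Ideal S₀ := (IsLocalRing.maximalIdeal S).comap (algebraMap S₀ S)
  haveI : q.IsPrime := Ideal.comap_isPrime _ _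
  have hu : ∀ x ∈ q.primeCompl, IsUnit (algebraMap S₀ S x) := fun x hx =>
    IsLocalRing.notMem_maximalIdeal.1 hx
  have hle : M₀ ≤ q.primeCompl := fun x hx hmem =>
    (IsLocalRing.mem_maximalIdeal _).1 hmem (IsLocalization.map_units S ⟨x, hx⟩)
  letI : Module S₀ N := Module.compHom N (algebraMap S₀ S)
  haveI : IsScalarTower S₀ S N := IsScalarTower.of_compHom _ _ N
  haveI : IsScalarTower R S₀ N := IsScalarTower.of_algebraMap_smul fun r n => by
    show algebraMap S₀ S (algebraMap R S₀ r) • n = r • n
    rw [← IsScalarTower.algebraMap_apply, algebraMap_smul]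
  obtain ⟨N₀, _, _, f, _, _⟩ := exists_module_model M₀ q.primeCompl hle hu N
  -- reduce to `s = algebraMap a`
  obtain ⟨⟨a, c⟩, hac⟩ := IsLocalization.surj M₀ s
  simp only at hac
  have hcu : IsUnit (algebraMap S₀ S c) := IsLocalization.map_units S c
  suffices h : Function.Injective (((LinearMap.lsmul S₀ N a).restrictScalars R).lTensor Q) by
    have e : (LinearMap.lsmul S₀ N a).restrictScalars R =
        ((LinearMap.lsmul S N (algebraMap S₀ S c)).restrictScalars R) ∘ₗ
          ((LinearMap.lsmul S N s).restrictScalars R) := by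
      ext n
      show algebraMap S₀ S a • n = algebraMap S₀ S c • s • n
      rw [smul_smul, mul_comm, hac]
    rw [e, LinearMap.lTensor_comp, LinearMap.coe_comp] at h
    exact h.of_comp
  have haq : a ∈ q := by
    show algebraMap S₀ S a ∈ IsLocalRing.maximalIdeal S
    rw [← hac]
    exact Ideal.mul_mem_right _ _ ((IsLocalRing.mem_maximalIdeal _).2 hsu)
  have hareg : ∀ n : N, algebraMap S₀ S a • n ∈ IsLocalRing.maximalIdeal R • (⊤ : Submodule R N) →
      n ∈ IsLocalRing.maximalIdeal R • (⊤ : Submodule R N) := by
    intro n hn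
    apply hs
    have := Submodule.mem_map_of_mem
      (f := (LinearMap.lsmul S N (↑hcu.unit⁻¹ : S)).restrictScalars R) hn
    rw [Submodule.map_smul''] at this
    have h2 := Submodule.smul_mono le_rfl le_top this
    have e : (↑hcu.unit⁻¹ : S) • algebraMap S₀ S a • n = s • n := by
      rw [smul_smul, ← hac, mul_left_comm, IsUnit.val_inv_mul, mul_one]
    exact e ▸ h2
  -- the auxiliary algebra
  letI : Algebra R[X] S₀ := (Polynomial.aeval a).toRingHom.toAlgebra
  haveI : IsScalarTower R R[X] S₀ := IsScalarTower.of_algebraMap_eq fun r => by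
    show _ = Polynomial.aeval a (Polynomial.C r)
    rw [Polynomial.aeval_C]
  letI : Module R[X] N := Module.compHom N (algebraMap R[X] S₀)
  haveI : IsScalarTower R[X] S₀ N := IsScalarTower.of_compHom _ _ N
  haveI : IsScalarTower R R[X] N := IsScalarTower.of_algebraMap_smul fun r n => by
    show algebraMap R[X] S₀ (algebraMap R R[X] r) • n = r • n
    rw [← IsScalarTower.algebraMap_apply, algebraMap_smul]
  letI : Module R[X] N₀ := Module.compHom N₀ (algebraMap R[X] S₀)
  haveI : IsScalarTower R[X] S₀ N₀ := IsScalarTower.of_compHom _ _ N₀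
  letI : Module R N₀ := Module.compHom N₀ (algebraMap R S₀)
  haveI : IsScalarTower R S₀ N₀ := IsScalarTower.of_compHom _ _ N₀
  let e : LocalizedModule q.primeCompl N₀ ≃ₗ[S₀] N := IsLocalizedModule.iso q.primeCompl f
  haveI : Module.Flat R (LocalizedModule q.primeCompl N₀) :=
    Module.Flat.of_linearEquiv (e.restrictScalars R)
  let p := IsLocalRing.maximalIdeal R
  have hp : q.comap (algebraMap R S₀) = p := by
    rw [Ideal.comap_comap, ← IsScalarTower.algebraMap_eq]
    ext x
    simp [p, IsLocalRing.mem_maximalIdeal, mem_nonunits_iff, isUnit_map_iff]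
  -- the fibre is flat over `k[X]`
  let I : Ideal R[X] := p.map Polynomial.C
  let k := R[X] ⧸ I
  let ek : (R ⧸ p)[X] ≃+* k := Ideal.polynomialQuotientEquivQuotientPolynomial p
  letI : Field (R ⧸ p) := Ideal.Quotient.field p
  haveI : IsDomain k := ek.toMulEquiv.symm.isDomain
  haveI : IsPrincipalIdealRing k := IsPrincipalIdealRing.of_surjective ek.toRingHom ek.surjective
  have hmem : ∀ (g : R[X]), g ∈ I → ∀ n : N, g • n ∈ p • (⊤ : Submodule R N) := by
    intro g hg
    induction hg using Submodule.span_induction with
    | mem g hg =>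
      obtain ⟨r, hr, rfl⟩ := hg
      intro n
      rw [← Polynomial.algebraMap_eq, algebraMap_smul]
      exact Submodule.smul_mem_smul hr Submodule.mem_top
    | zero => intro n; rw [zero_smul]; exact Submodule.zero_mem _
    | add g g' _ _ h1 h2 => intro n; rw [add_smul]; exact Submodule.add_mem _ (h1 n) (h2 n)
    | smul g g' _ h1 => intro n; rw [smul_eq_mul, mul_comm, mul_smul]; exact h1 _
  have hreg : ∀ g : R[X], g ∉ I → ∀ n : N, g • n ∈ p • (⊤ : Submodule R N) →
      n ∈ p • (⊤ : Submodule R N) := by
    intro g
    induction g using Polynomial.recOnHorner with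
    | M0 => intro h; exact absurd I.zero_mem h
    | MC g r hg0 hr ih =>
      intro hgI n hn
      by_cases hrp : r ∈ p
      · have hC : Polynomial.C r ∈ I := Ideal.mem_map_of_mem _ hrp
        refine ih (fun h => hgI (I.add_mem h hC)) n ?_
        have := Submodule.sub_mem _ hn (hmem _ hC n)
        rwa [add_smul, add_sub_cancel_right] at this
      · obtain ⟨g', hg'⟩ : Polynomial.X ∣ g := Polynomial.X_dvd_iff.2 hg0
        let v : S := algebraMap S₀ S (algebraMap R[X] S₀ (g + Polynomial.C r))
        have hv : IsUnit v := by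
          apply hu
          intro hmem
          have h1 : algebraMap R[X] S₀ g ∈ q := by
            rw [hg']
            show Polynomial.aeval a (Polynomial.X * g') ∈ q
            rw [map_mul, Polynomial.aeval_X]
            exact Ideal.mul_mem_right _ _ haq
          replace hmem : algebraMap R[X] S₀ (g + Polynomial.C r) ∈ q := hmem
          rw [map_add, q.add_mem_iff_right h1] at hmem
          rw [← Polynomial.algebraMap_eq, ← IsScalarTower.algebraMap_apply, ← Ideal.mem_comap,
            hp] at hmem
          exact hrp hmem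
        have hn' : v • n ∈ p • (⊤ : Submodule R N) := hn
        have := Submodule.mem_map_of_mem
          (f := (LinearMap.lsmul S N (↑hv.unit⁻¹ : S)).restrictScalars R) hn'
        rw [Submodule.map_smul''] at this
        have h2 := Submodule.smul_mono le_rfl le_top this
        simpa [smul_smul] using h2
    | MX g hg ih =>
      intro hgI n hn
      rw [mul_smul] at hn
      have hgI' : g ∉ I := fun h => hgI (I.mul_mem_right _ h)
      have h1 := ih hgI' _ hn
      have h2 : algebraMap S₀ S (algebraMap R[X] S₀ Polynomial.X) • n ∈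
          p • (⊤ : Submodule R N) := h1
      rw [show algebraMap R[X] S₀ Polynomial.X = a from Polynomial.aeval_X a] at h2
      exact hareg n h2
  have hflat : Module.Flat k (k ⊗[R[X]] N) := by
    rw [Module.Flat.flat_iff_torsion_eq_bot_of_isBezout, Submodule.eq_bot_iff]
    rintro z ⟨⟨g, hg⟩, hgz⟩
    obtain ⟨g, rfl⟩ := Ideal.Quotient.mk_surjective g
    obtain ⟨n, rfl⟩ := TensorProduct.mk_surjective R[X] N k Ideal.Quotient.mk_surjective z
    have hgI : g ∉ I := fun h => nonZeroDivisors.ne_zero hg (Ideal.Quotient.eq_zero_iff_mem.2 h)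
    have key : ∀ x : N, (1 : k) ⊗ₜ[R[X]] x = 0 ↔ x ∈ p • (⊤ : Submodule R N) := by
      intro x
      rw [← LinearEquiv.map_eq_zero_iff (TensorProduct.quotTensorEquivQuotSMul N I),
        show (1 : k) = Ideal.Quotient.mk I 1 from (map_one _).symm,
        TensorProduct.quotTensorEquivQuotSMul_mk_tmul, one_smul, Submodule.Quotient.mk_eq_zero]
      constructor
      · intro hx
        induction hx using Submodule.smul_induction_on' with
        | smul g hg y _ => exact hmem g hg y
        | add x _ y _ hx hy => exact Submodule.add_mem _ hx hy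
      · intro hx
        induction hx using Submodule.smul_induction_on' with
        | smul r hr y _ =>
          rw [← algebraMap_smul R[X] r y]
          exact Submodule.smul_mem_smul (Ideal.mem_map_of_mem _ hr) Submodule.mem_top
        | add x _ y _ hx hy => exact Submodule.add_mem _ hx hy
    have h0 : (1 : k) ⊗ₜ[R[X]] (g • n) = 0 := by
      rw [tmul_smul, ← algebraMap_smul k g]
      exact hgz
    exact (key n).2 (hreg g hgI n ((key _).1 h0))
  -- conclude
  have hfib : Groth.Agent.FlatLocus.RelFlat R (q.comap (algebraMap R S₀)) R[X]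
      (LocalizedModule q.primeCompl N₀) := by
    rw [hp]
    have hrel : Groth.Agent.FlatLocus.RelFlat R p R[X] N := by
      intro A B _ _ _ _ φ hA hB hφ
      have mA : Module.IsTorsionBySet R[X] A (I : Set R[X]) := by
        rintro x ⟨g, hg⟩
        revert x
        induction hg using Submodule.span_induction with
        | mem g hg => obtain ⟨r, hr, rfl⟩ := hg; exact fun x => hA r hr x
        | zero => intro x; exact zero_smul _ _
        | add g g' _ _ h1 h2 => intro x; show (g + g') • x = 0; rw [add_smul, h1, h2, add_zero]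
        | smul g g' _ h1 => intro x; show (g • g') • x = 0; rw [smul_eq_mul, mul_smul, h1, smul_zero]
      have mB : Module.IsTorsionBySet R[X] B (I : Set R[X]) := by
        rintro x ⟨g, hg⟩
        revert x
        induction hg using Submodule.span_induction with
        | mem g hg => obtain ⟨r, hr, rfl⟩ := hg; exact fun x => hB r hr x
        | zero => intro x; exact zero_smul _ _
        | add g g' _ _ h1 h2 => intro x; show (g + g') • x = 0; rw [add_smul, h1, h2, add_zero]
        | smul g g' _ h1 => intro x; show (g • g') • x = 0; rw [smul_eq_mul, mul_smul, h1, smul_zero]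
      letI : Module k A := mA.module
      letI : Module k B := mB.module
      haveI : IsScalarTower R[X] k A := mA.isScalarTower
      haveI : IsScalarTower R[X] k B := mB.isScalarTower
      let φk : A →ₗ[k] B := φ.extendScalarsOfSurjective Ideal.Quotient.mk_surjective
      let eA : N ⊗[R[X]] A ≃ₗ[R[X]] A ⊗[k] (k ⊗[R[X]] N) :=
        (TensorProduct.comm R[X] N A).trans
          ((TensorProduct.AlgebraTensorModule.cancelBaseChange R[X] k k A N).symm.restrictScalars R[X])
      let eB : N ⊗[R[X]] B ≃ₗ[R[X]] B ⊗[k] (k ⊗[R[X]] N) :=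
        (TensorProduct.comm R[X] N B).trans
          ((TensorProduct.AlgebraTensorModule.cancelBaseChange R[X] k k B N).symm.restrictScalars R[X])
      have hc : ∀ z, eB (φ.lTensor N z) = φk.rTensor (k ⊗[R[X]] N) (eA z) := by
        intro z
        induction z with
        | zero => simp
        | tmul n x => simp [eA, eB, φk]
        | add x y hx hy => simp only [map_add, hx, hy]
      have hi : Function.Injective (φk.rTensor (k ⊗[R[X]] N)) :=
        Module.Flat.rTensor_preserves_injective_linearMap φk hφ
      intro x y hxy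
      exact eA.injective (hi (by rw [← hc, ← hc, hxy]))
    exact hrel.congr (e.symm.restrictScalars R[X])
  haveI := Groth.Agent.FlatLocus.flat_of_relFlat_of_finitePresentation (R := R) (T := R[X])
    (M := N₀) q hfib
  haveI : Module.Flat R[X] N := Module.Flat.of_linearEquiv (e.symm.restrictScalars R[X])
  -- multiplication by X
  let μ : R[X] ⊗[R] Q →ₗ[R[X]] R[X] ⊗[R] Q := LinearMap.lsmul R[X] _ Polynomial.X
  have hμ : Function.Injective μ := by
    let mX : R[X] →ₗ[R] R[X] := LinearMap.mulLeft R Polynomial.X
    let dX : R[X] →ₗ[R] R[X] :=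
      { toFun := Polynomial.divX
        map_add' := fun f g => Polynomial.divX_add
        map_smul' := fun r g => by
          ext n; simp [Polynomial.coeff_divX] }
    have hd : dX ∘ₗ mX = LinearMap.id := by
      ext n m
      simp [dX, mX, Polynomial.coeff_divX, Polynomial.coeff_monomial]
    have hμe : ∀ z, μ z = mX.rTensor Q z := by
      intro z
      induction z with
      | zero => simp
      | tmul g x => simp [μ, mX, smul_tmul']
      | add x y hx hy => simp only [map_add, hx, hy]
    intro x y hxy
    rw [hμe, hμe] at hxy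
    have := congrArg (dX.rTensor Q) hxy
    rwa [← LinearMap.comp_apply, ← LinearMap.comp_apply (dX.rTensor Q), ← LinearMap.rTensor_comp,
      hd, LinearMap.rTensor_id, LinearMap.id_apply, LinearMap.id_apply] at this
  have hinj := Module.Flat.lTensor_preserves_injective_linearMap (M := N) μ hμ
  let eQ : Q ⊗[R] N ≃ₗ[R] N ⊗[R[X]] (R[X] ⊗[R] Q) :=
    (TensorProduct.comm R Q N).trans
      ((TensorProduct.AlgebraTensorModule.cancelBaseChange R R[X] R[X] N Q).symm.restrictScalars R)
  have hcomm : ∀ z, eQ (((LinearMap.lsmul S₀ N a).restrictScalars R).lTensor Q z) =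
      μ.lTensor N (eQ z) := by
    intro z
    induction z with
    | zero => simp
    | tmul x n =>
      simp only [eQ, μ, LinearMap.lTensor_tmul, LinearEquiv.trans_apply, TensorProduct.comm_tmul,
        LinearEquiv.restrictScalars_apply, LinearMap.coe_restrictScalars, LinearMap.lsmul_apply,
        TensorProduct.AlgebraTensorModule.cancelBaseChange_symm_tmul]
      rw [tmul_smul, smul_tmul']
      congr 1
      exact (congrArg (· • n) (Polynomial.aeval_X a)).symm
    | add x y hx hy => simp only [map_add, hx, hy]
  intro x y hxy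
  exact eQ.injective (hinj (by rw [← hcomm, ← hcomm, hxy]))

end Groth.Agent.UnivInjFib
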