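import Mathlib

/-!
# Universal injectivity from injectivity on fibres

Let `A` be a ring, `N` an `A`-flat module which is a localization of a finite module over a
polynomial algebra over `A`, and `u : N → M` an `A`-linear map to a flat module which is
injective on every fibre. Then `u` is universally injective.

No finite presentation is needed: only the fibre `κ(p) ⊗ N` and finitely many coefficients of it
are used, so the argument takes place over a finitely generated subfield of `κ(p)`.
-/

namespace Groth.Agent.UnivInjFib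

open TensorProduct

universe u

section LI

variable {A : Type u} [CommRing A] {M Q : Type u} [AddCommGroup M] [Module A M]
  [AddCommGroup Q] [Module A Q] [Module.Flat A M] (p : Ideal A) [p.IsPrime]

/-- Elements of a flat module which are independent in a fibre have no relations with
coefficients in any module, up to elements outside the prime. -/
theorem exists_smul_eq_zero_of_sum_tmul_eq_zero {ι : Type*} [Fintype ι] (e : ι → M) (q : ι → Q)
    (hLI : LinearIndependent p.ResidueField (fun i => (1 : p.ResidueField) ⊗ₜ[A] e i))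
    (h : ∑ i, e i ⊗ₜ[A] q i = 0) : ∃ s ∉ p, ∀ i, s • q i = 0 := by
  classical
  have h' : ∑ i, q i ⊗ₜ[A] e i = 0 := by
    simpa using congrArg (TensorProduct.comm A M Q) h
  obtain ⟨l₀, a, y, hy, ha⟩ :=
    TensorProduct.vanishesTrivially_of_sum_tmul_eq_zero_of_rTensor_injective A
      (Module.Flat.rTensor_preserves_injective_linearMap _ Subtype.val_injective) h'
  -- the matrix `a` has a right inverse modulo `p`
  let φ : A →+* p.ResidueField := algebraMap A p.ResidueField
  let abar : Matrix ι (Fin l₀) p.ResidueField := Matrix.of fun i j => φ (a i j)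
  have hinj : Function.Injective abar.vecMul := by
    rw [Matrix.vecMul_injective_iff]
    rw [Fintype.linearIndependent_iff] at hLI ⊢
    intro g hg
    apply hLI g
    have hj : ∀ j, ∑ i, g i * φ (a i j) = 0 := by
      intro j
      simpa [abar, Finset.sum_apply] using congrFun hg j
    calc ∑ i, g i • ((1 : p.ResidueField) ⊗ₜ[A] e i)
        = ∑ i, ∑ j, (g i * φ (a i j)) • ((1 : p.ResidueField) ⊗ₜ[A] y j) := by
          refine Finset.sum_congr rfl fun i _ => ?_
          rw [hy i, tmul_sum, Finset.smul_sum]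
          refine Finset.sum_congr rfl fun j _ => ?_
          rw [mul_smul, tmul_smul, algebraMap_smul]
      _ = 0 := by
          rw [Finset.sum_comm]
          simp [← Finset.sum_smul, hj]
  obtain ⟨g, hg⟩ := abar.vecMulLinear.exists_leftInverse_of_injective
    (LinearMap.ker_eq_bot.2 hinj)
  let bbar : Matrix (Fin l₀) ι p.ResidueField := Matrix.of fun j i => g (Pi.single j 1) i
  have hbbar : abar * bbar = 1 := by
    ext l i
    have h1 := congrFun (LinearMap.congr_fun hg (Pi.single l 1)) i
    rw [LinearMap.comp_apply, LinearMap.id_apply, Matrix.vecMulLinear_apply,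
      Matrix.single_one_vecMul, ← Finset.univ_sum_single (abar.row l), map_sum,
      Finset.sum_apply] at h1
    rw [Matrix.mul_apply, Matrix.one_apply, show (if l = i then (1 : p.ResidueField) else 0) =
      Pi.single (M := fun _ => p.ResidueField) l 1 i by simp [Pi.single_apply, eq_comm], ← h1]
    refine Finset.sum_congr rfl fun j _ => ?_
    rw [show Pi.single (M := fun _ => p.ResidueField) j (abar.row l j) =
      abar.row l j • Pi.single j 1 by simp [← Pi.single_smul], map_smul]
    rfl
  -- lift it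
  obtain ⟨⟨d, hd⟩, hb⟩ := IsLocalization.exist_integer_multiples_of_finite
    (M := nonZeroDivisors (A ⧸ p)) (fun x : Fin l₀ × ι => bbar x.1 x.2)
  choose b₀ hb₀ using fun x => (hb x)
  obtain ⟨d₀, rfl⟩ := Ideal.Quotient.mk_surjective d
  choose b₁ hb₁ using fun x => Ideal.Quotient.mk_surjective (b₀ x)
  let b : Matrix (Fin l₀) ι A := Matrix.of fun j i => b₁ (j, i)
  have hd₀ : φ d₀ ≠ 0 := by
    intro h0
    have : (Ideal.Quotient.mk p d₀) = 0 :=
      Ideal.Quotient.eq_zero_iff_mem.2 (Ideal.algebraMap_residueField_eq_zero.1 h0)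
    exact nonZeroDivisors.ne_zero hd this
  have hbφ : b.map φ = φ d₀ • bbar := by
    ext j i
    have := hb₀ (j, i)
    rw [← hb₁ (j, i)] at this
    exact (IsScalarTower.algebraMap_apply A (A ⧸ p) p.ResidueField (b₁ (j, i))).trans
      (this.trans ((Algebra.smul_def _ _).trans (congrArg (· * bbar j i)
        (IsScalarTower.algebraMap_apply A (A ⧸ p) p.ResidueField d₀).symm)))
  have hdet : φ ((Matrix.of a * b).det) = φ d₀ ^ Fintype.card ι := by
    rw [RingHom.map_det, RingHom.mapMatrix_apply, Matrix.map_mul, hbφ, Matrix.mul_smul]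
    rw [show (Matrix.of a).map φ = abar from rfl, hbbar, Matrix.det_smul, Matrix.det_one, mul_one]
  refine ⟨(Matrix.of a * b).det, fun hmem => pow_ne_zero (Fintype.card ι) hd₀
    (hdet ▸ Ideal.algebraMap_residueField_eq_zero.2 hmem), fun l => ?_⟩
  let c : Matrix (Fin l₀) ι A := b * (Matrix.of a * b).adjugate
  have hac : Matrix.of a * c = (Matrix.of a * b).det • (1 : Matrix ι ι A) := by
    rw [← Matrix.mul_assoc, Matrix.mul_adjugate]
  calc (Matrix.of a * b).det • q l = ∑ i, (Matrix.of a * c) i l • q i := by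
        rw [hac, Finset.sum_eq_single l] <;> simp +contextual [Matrix.one_apply]
    _ = ∑ i, ∑ j, c j l • (a i j • q i) := by
        refine Finset.sum_congr rfl fun i _ => ?_
        rw [Matrix.mul_apply, Finset.sum_smul]
        refine Finset.sum_congr rfl fun j _ => ?_
        simp [smul_smul, mul_comm]
    _ = 0 := by
        rw [Finset.sum_comm]
        simp [← Finset.smul_sum, ha]

end LI

section Elem

variable {A : Type u} [CommRing A] {N Q : Type u} [AddCommGroup N] [Module A N]
  [AddCommGroup Q] [Module A Q] [Module.Flat A N] (p : Ideal A) [p.IsPrime]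

/-- An element of a flat module which vanishes in the fibre at `p` lies in `pN`. -/
theorem mem_smul_top_of_one_tmul_eq_zero {n : N}
    (h : (1 : p.ResidueField) ⊗ₜ[A] n = 0) : n ∈ p • (⊤ : Submodule A N) := by
  have hinj : Function.Injective ((IsScalarTower.toAlgHom A (A ⧸ p) p.ResidueField).toLinearMap) :=
    Ideal.injective_algebraMap_quotient_residueField p
  have h2 := Module.Flat.rTensor_preserves_injective_linearMap (M := N) _ hinj
  have h3 : (1 : A ⧸ p) ⊗ₜ[A] n = 0 := h2 (by simpa using h)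
  have h4 := congrArg (TensorProduct.quotTensorEquivQuotSMul N p) h3
  rw [map_zero, ← map_one (Ideal.Quotient.mk p),
    TensorProduct.quotTensorEquivQuotSMul_mk_tmul, one_smul, Submodule.Quotient.mk_eq_zero] at h4
  exact h4

omit [p.IsPrime] in
/-- In a flat module, an element of `N ⊗ Q` killed by an ideal comes from the torsion of `Q`. -/
theorem exists_torsion_lift {G : Finset A} (x : N ⊗[A] Q) (hx : ∀ a ∈ G, a • x = 0) :
    ∃ x₁ : N ⊗[A] (Submodule.torsionBySet A Q G : Submodule A Q),
      LinearMap.lTensor N (Submodule.torsionBySet A Q (G : Set A)).subtype x₁ = x := by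
  classical
  let g : Q →ₗ[A] (G → Q) := LinearMap.pi fun a => LinearMap.lsmul A Q a.1
  have hex : Function.Exact (Submodule.torsionBySet A Q (G : Set A)).subtype g := by
    intro q
    refine ⟨fun h => ⟨⟨q, ?_⟩, rfl⟩, ?_⟩
    · rw [Submodule.mem_torsionBySet_iff]
      rintro ⟨a, ha⟩
      exact congrFun h ⟨a, ha⟩
    · rintro ⟨⟨q, hq⟩, rfl⟩
      funext a
      exact (Submodule.mem_torsionBySet_iff _ _).1 hq ⟨a.1, a.2⟩
  refine ((Module.Flat.lTensor_exact N hex) x).1 ?_
  apply (TensorProduct.piRight A A N fun _ : G => Q).injective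
  rw [map_zero]
  funext a
  have key : ∀ z : N ⊗[A] Q, TensorProduct.piRight A A N (fun _ : G => Q)
      (LinearMap.lTensor N g z) a = a.1 • z := by
    intro z
    induction z with
    | zero => simp
    | tmul n q => simp [g]
    | add z w hz hw => simp only [map_add, Pi.add_apply, smul_add, hz, hw]
  rw [key, hx a.1 a.2, Pi.zero_apply]

omit [Module.Flat A N] in
/-- If `p` is minimal over an ideal `I`, every element of `p` is nilpotent modulo `I` at `p`. -/
theorem exists_mul_pow_mem {I : Ideal A} (hp : p ∈ I.minimalPrimes) {a : A} (ha : a ∈ p) :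
    ∃ s ∉ p, ∃ c : ℕ, s * a ^ c ∈ I := by
  by_contra h
  push Not at h
  let S : Submonoid A := p.primeCompl ⊔ Submonoid.powers a
  have hdis : Disjoint (I : Set A) (S : Set A) := by
    rw [Set.disjoint_right]
    intro x hx hxI
    obtain ⟨s, hs, y, ⟨c, rfl⟩, rfl⟩ := Submonoid.mem_sup.1 hx
    exact h s hs c hxI
  obtain ⟨q, hq, hIq, hqS⟩ := Ideal.exists_le_prime_disjoint I S hdis
  have hqp : q ≤ p := fun x hx => by
    by_contra hxp
    exact Set.disjoint_left.1 hqS hx (Submonoid.mem_sup_left hxp)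
  have hpq : p ≤ q := hp.2 ⟨hq, hIq⟩ hqp
  exact Set.disjoint_left.1 hqS (hpq ha)
    (Submonoid.mem_sup_right (Submonoid.mem_powers a))

end Elem

section Main

open MvPolynomial

variable {A : Type u} [CommRing A] {n r : ℕ}
  {N : Type u} [AddCommGroup N] [Module A N] [Module (MvPolynomial (Fin n) A) N]
  [IsScalarTower A (MvPolynomial (Fin n) A) N] [Module.Flat A N]
  {M : Type u} [AddCommGroup M] [Module A M] [Module.Flat A M]

/-- The index set of the monomial basis. -/
abbrev Idx (n r : ℕ) := Fin r × (Fin n →₀ ℕ)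

/-- Monomial basis vectors. -/
noncomputable def mon (R : Type u) [CommRing R] (e : Idx n r) :
    Fin r → MvPolynomial (Fin n) R :=
  Pi.single e.1 (monomial e.2 (1 : R))

theorem mem_span_mon (R : Type u) [CommRing R] (f : Fin r → MvPolynomial (Fin n) R) :
    f ∈ Submodule.span R (Set.range (mon (n := n) (r := r) R)) := by
  classical
  rw [← Finset.univ_sum_single f]
  refine Submodule.sum_mem _ fun i _ => ?_
  rw [MvPolynomial.as_sum (f i)]
  have key : ∀ g : Finset (Fin n →₀ ℕ), Pi.single i (∑ m ∈ g, monomial m ((f i).coeff m)) ∈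
      Submodule.span R (Set.range (mon (n := n) (r := r) R)) := by
    intro g
    have : Pi.single i (∑ m ∈ g, monomial m ((f i).coeff m)) =
        ∑ m ∈ g, ((f i).coeff m) • mon R (i, m) := by
      ext j : 1
      by_cases hj : j = i
      · subst hj
        simp [mon, smul_monomial]
      · simp [mon, hj]
    rw [this]
    exact Submodule.sum_mem _ fun m _ => Submodule.smul_mem _ _ (Submodule.subset_span ⟨(i, m), rfl⟩)
  exact key _

theorem univInj_aux (π : (Fin r → MvPolynomial (Fin n) A) →ₗ[MvPolynomial (Fin n) A] N)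
    (T : Submonoid (MvPolynomial (Fin n) A))
    (hT : ∀ t ∈ T, Function.Bijective fun x : N => t • x)
    (hgen : ∀ x : N, ∃ t ∈ T, ∃ f, t • x = π f)
    (u : N →ₗ[A] M) (h : ∀ (p : Ideal A) [p.IsPrime], Function.Injective (u.lTensor p.ResidueField))
    (Q : Type u) [AddCommGroup Q] [Module A Q] : Function.Injective (u.rTensor Q) := by
  classical
  rw [injective_iff_map_eq_zero]
  intro x₀ hx₀
  by_contra hne
  have hI : Ideal.torsionOf A _ x₀ ≠ ⊤ := by
    rwa [Ne, Ideal.torsionOf_eq_top_iff]
  obtain ⟨p, hp⟩ := Ideal.nonempty_minimalPrimes hI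
  haveI : p.IsPrime := hp.1.1
  have hgood₀ : ∀ s ∉ p, s • x₀ ≠ 0 := fun s hs h0 => hs (hp.1.2 h0)
  -- fibre data
  let k := p.ResidueField
  let φ : A →+* k := algebraMap A k
  let red : (Fin r → MvPolynomial (Fin n) A) → (Fin r → MvPolynomial (Fin n) k) :=
    fun f i => MvPolynomial.map φ (f i)
  have red_add : ∀ f g, red (f + g) = red f + red g := fun f g => by ext i : 1; simp [red]
  have red_sum : ∀ {α : Type} (s : Finset α) (f : α → Fin r → MvPolynomial (Fin n) A),
      red (∑ a ∈ s, f a) = ∑ a ∈ s, red (f a) := fun s f => by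
    ext i : 1; simp [red, Finset.sum_apply]
  have red_smul : ∀ (g : MvPolynomial (Fin n) A) f, red (g • f) = MvPolynomial.map φ g • red f :=
    fun g f => by ext i : 1; simp [red]
  have red_smulA : ∀ (a : A) f, red (a • f) = φ a • red f := fun a f => by
    ext i : 1; simp [red, MvPolynomial.smul_eq_C_mul]
  have red_mon : ∀ e, red (mon A e) = mon k e := fun e => by
    ext i : 1
    by_cases hi : i = e.1
    · subst hi; simp [red, mon]
    · simp [red, mon, hi]
  let W : Submodule (MvPolynomial (Fin n) k) (Fin r → MvPolynomial (Fin n) k) :=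
    Submodule.span _ (red '' (LinearMap.ker π : Set (Fin r → MvPolynomial (Fin n) A)))
  obtain ⟨R₀, hR₀, hWR⟩ := (Submodule.fg_span_iff_fg_span_finset_subset _).1
    (IsNoetherian.noetherian W)
  -- saturation
  let L : Submodule (MvPolynomial (Fin n) k) (Fin r → MvPolynomial (Fin n) k) :=
    { carrier := {f | ∃ t ∈ T, MvPolynomial.map φ t • f ∈ W}
      zero_mem' := ⟨1, T.one_mem, by simp⟩
      add_mem' := by
        rintro f g ⟨s, hs, hsf⟩ ⟨t, ht, htg⟩
        refine ⟨s * t, T.mul_mem hs ht, ?_⟩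
        rw [map_mul, smul_add]
        refine W.add_mem ?_ ?_
        · rw [mul_comm, mul_smul]; exact W.smul_mem _ hsf
        · rw [mul_smul]; exact W.smul_mem _ htg
      smul_mem' := by
        rintro c f ⟨s, hs, hsf⟩
        exact ⟨s, hs, by rw [smul_comm]; exact W.smul_mem _ hsf⟩ }
  obtain ⟨gensL, hgensL⟩ := IsNoetherian.noetherian L
  have hgensL' : ∀ f ∈ gensL, ∃ t ∈ T, MvPolynomial.map φ t • f ∈ W := fun f hf =>
    (hgensL ▸ Submodule.subset_span hf : f ∈ L)
  choose! tl htlT htlW using hgensL'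
  let t₀ := ∏ f ∈ gensL, tl f
  have ht₀ : t₀ ∈ T := T.prod_mem htlT
  have ht₀L : ∀ f ∈ L, MvPolynomial.map φ t₀ • f ∈ W := by
    intro f hf
    rw [← hgensL] at hf
    induction hf using Submodule.span_induction with
    | mem f hf =>
      have e : MvPolynomial.map φ t₀ • f =
          MvPolynomial.map φ (∏ g ∈ gensL.erase f, tl g) • (MvPolynomial.map φ (tl f) • f) := by
        rw [smul_smul, ← map_mul, Finset.prod_erase_mul _ _ hf]
      rw [e]
      exact W.smul_mem _ (htlW f hf)
    | zero => simp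
    | add a b _ _ ha hb => rw [smul_add]; exact W.add_mem ha hb
    | smul c a _ ha => rw [smul_comm]; exact W.smul_mem _ ha
  -- lifts of generators of W
  choose ρ hρker hρ using fun f : {f // f ∈ R₀} => hR₀ f.2
  -- the finitely many coefficients
  let S : Finset A := t₀.support.image (fun m => t₀.coeff m) ∪
    Finset.univ.biUnion (fun f => Finset.univ.biUnion fun i =>
      (ρ f i).support.image (fun m => (ρ f i).coeff m))
  let A₀ : Subring A := Subring.closure (S : Set A)
  let κ : Subfield k := Subfield.closure (φ '' (S : Set A))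
  haveI : IsNoetherianRing A₀ := is_noetherian_subring_closure _ S.finite_toSet
  obtain ⟨G₀, hG₀⟩ := IsNoetherian.noetherian (p.comap A₀.subtype)
  let G : Finset A := G₀.image A₀.subtype
  have hGp : ∀ a ∈ G, a ∈ p := by
    intro a ha
    obtain ⟨b, hb, rfl⟩ := Finset.mem_image.1 ha
    exact (hG₀ ▸ Submodule.subset_span hb : b ∈ p.comap A₀.subtype)
  have hA₀p : ∀ a ∈ A₀, φ a = 0 → a ∈ Ideal.span (G : Set A) := by
    intro a ha h0
    have hap : a ∈ p := Ideal.algebraMap_residueField_eq_zero.1 h0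
    have hb : (⟨a, ha⟩ : A₀) ∈ p.comap A₀.subtype := hap
    rw [← hG₀] at hb
    have := Ideal.mem_map_of_mem A₀.subtype (show (⟨a, ha⟩ : A₀) ∈ Ideal.span (G₀ : Set A₀) from hb)
    rw [Ideal.map_span] at this
    simpa [G] using this
  have hκlift : ∀ c ∈ κ, ∃ a d : A, a ∈ A₀ ∧ d ∈ A₀ ∧ φ d ≠ 0 ∧ φ d * c = φ a := by
    intro c hc
    obtain ⟨y, hy, z, hz, rfl⟩ := Subfield.mem_closure_iff.1 hc
    rw [← RingHom.map_closure] at hy hz
    obtain ⟨a, ha, rfl⟩ := hy
    obtain ⟨d, hd, rfl⟩ := hz
    by_cases hd0 : φ d = 0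
    · exact ⟨0, 1, A₀.zero_mem, A₀.one_mem, by simp, by simp [hd0]⟩
    · exact ⟨a, d, ha, hd, hd0, mul_div_cancel₀ _ hd0⟩
  -- replace `x₀` by an element killed by `G`
  have hkill : ∀ G' : Finset A, G' ⊆ G → ∃ x : N ⊗[A] Q, u.rTensor Q x = 0 ∧
      (∀ s ∉ p, s • x ≠ 0) ∧ (∀ a ∈ Ideal.torsionOf A _ x₀, a • x = 0) ∧ ∀ a ∈ G', a • x = 0 := by
    intro G'
    induction G' using Finset.induction with
    | empty =>
      exact fun _ => ⟨x₀, hx₀, hgood₀, fun a ha => ha, fun a ha => absurd ha (Finset.notMem_empty a)⟩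
    | @insert a G' _ ih =>
      intro hsub
      obtain ⟨x, hux, hgood, htor, hG'⟩ := ih (fun b hb => hsub (Finset.mem_insert_of_mem hb))
      obtain ⟨s, hs, c, hc⟩ := exists_mul_pow_mem p hp (hGp a (hsub (Finset.mem_insert_self a G')))
      have hex : ∃ c : ℕ, ∃ s ∉ p, (s * a ^ c) • x = 0 := ⟨c, s, hs, htor _ hc⟩
      obtain ⟨s', hs', hzero⟩ := Nat.find_spec hex
      have hne0 : Nat.find hex ≠ 0 := by
        intro h0
        rw [h0, pow_zero, mul_one] at hzero
        exact hgood s' hs' hzero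
      refine ⟨(s' * a ^ (Nat.find hex - 1)) • x, ?_, ?_, ?_, ?_⟩
      · rw [map_smul, hux, smul_zero]
      · intro t ht h0
        refine Nat.find_min hex (Nat.sub_one_lt hne0) ⟨t * s', ?_, ?_⟩
        · exact fun hmem => ((‹p.IsPrime›).mem_or_mem hmem).elim ht hs'
        · rw [mul_assoc, mul_smul]; exact h0
      · intro b hb
        rw [smul_comm, htor b hb, smul_zero]
      · intro b hb
        rcases Finset.mem_insert.1 hb with rfl | hb
        · rw [smul_smul, mul_left_comm, ← pow_succ',
            Nat.sub_add_cancel (Nat.pos_of_ne_zero hne0)]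
          exact hzero
        · rw [smul_comm, hG' b hb, smul_zero]
  obtain ⟨x, hux, hgood, -, hxG⟩ := hkill G subset_rfl
  -- move to the torsion submodule
  obtain ⟨x₁, hx₁⟩ := exists_torsion_lift x hxG
  let Q₁ : Submodule A Q := Submodule.torsionBySet A Q (G : Set A)
  have hQ₁ : ∀ a ∈ Ideal.span (G : Set A), ∀ q : Q₁, a • q = 0 := by
    intro a ha q
    induction ha using Submodule.span_induction with
    | mem b hb => exact Subtype.ext ((Submodule.mem_torsionBySet_iff _ _).1 q.2 ⟨b, hb⟩)
    | zero => simp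
    | add b c _ _ hb hc => rw [add_smul, hb, hc, add_zero]
    | smul b c _ hc => rw [smul_eq_mul, mul_smul, hc, smul_zero]
  have hux₁ : u.rTensor Q₁ x₁ = 0 := by
    apply Module.Flat.lTensor_preserves_injective_linearMap (M := M) Q₁.subtype
      Subtype.val_injective
    have e : LinearMap.lTensor M Q₁.subtype (u.rTensor Q₁ x₁) =
        u.rTensor Q (LinearMap.lTensor N Q₁.subtype x₁) := by
      rw [← LinearMap.comp_apply, LinearMap.lTensor_comp_rTensor, ← LinearMap.rTensor_comp_lTensor,
        LinearMap.comp_apply]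
    rw [e, hx₁, hux, map_zero]
  have hgood₁ : ∀ s ∉ p, s • x₁ ≠ 0 := by
    intro s hs h0
    apply hgood s hs
    rw [← hx₁, ← map_smul, h0, map_zero]
  -- endomorphisms given by T
  let E : ∀ t : MvPolynomial (Fin n) A, N →ₗ[A] N := fun t =>
    (LinearMap.lsmul (MvPolynomial (Fin n) A) N t).restrictScalars A
  have hEmul : ∀ s t, E (s * t) = E s ∘ₗ E t := fun s t => LinearMap.ext fun z => mul_smul s t z
  let πA : (Fin r → MvPolynomial (Fin n) A) →ₗ[A] N := π.restrictScalars A
  have hrep : ∀ z : N ⊗[A] Q₁, ∃ t ∈ T, (E t).rTensor Q₁ z ∈ LinearMap.range (πA.rTensor Q₁) := by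
    intro z
    induction z with
    | zero => exact ⟨1, T.one_mem, by simp⟩
    | tmul z q =>
      obtain ⟨t, ht, f, hf⟩ := hgen z
      exact ⟨t, ht, f ⊗ₜ q, by simp [E, πA, hf]⟩
    | add y z hy hz =>
      obtain ⟨s, hs, fy, hfy⟩ := hy
      obtain ⟨t, ht, fz, hfz⟩ := hz
      let F : MvPolynomial (Fin n) A → (Fin r → MvPolynomial (Fin n) A) →ₗ[A]
          (Fin r → MvPolynomial (Fin n) A) := fun g =>
        (LinearMap.lsmul (MvPolynomial (Fin n) A) _ g).restrictScalars A
      have hF : ∀ g, E g ∘ₗ πA = πA ∘ₗ F g := fun g => by ext f; simp [E, πA, F]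
      refine ⟨s * t, T.mul_mem hs ht, (F t).rTensor Q₁ fy + (F s).rTensor Q₁ fz, ?_⟩
      rw [map_add, map_add]
      congr 1
      · rw [mul_comm, hEmul, LinearMap.rTensor_comp, LinearMap.comp_apply, ← hfy,
          ← LinearMap.comp_apply, ← LinearMap.comp_apply, ← LinearMap.rTensor_comp,
          ← LinearMap.rTensor_comp, hF]
      · rw [hEmul, LinearMap.rTensor_comp, LinearMap.comp_apply, ← hfz,
          ← LinearMap.comp_apply, ← LinearMap.comp_apply, ← LinearMap.rTensor_comp,
          ← LinearMap.rTensor_comp, hF]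
  obtain ⟨t, ht, ζ, hζ⟩ := hrep x₁
  obtain ⟨Ef, qf, hζ'⟩ : ∃ (Ef : Finset (Idx n r)) (qf : Idx n r → Q₁),
      ζ = ∑ e ∈ Ef, mon A e ⊗ₜ[A] qf e := by
    have key : ζ ∈ LinearMap.range (Finsupp.lsum A (fun e : Idx n r =>
        TensorProduct.mk A (Fin r → MvPolynomial (Fin n) A) Q₁ (mon A e))) := by
      clear hζ
      induction ζ with
      | zero => exact Submodule.zero_mem _
      | add a b ha hb => exact Submodule.add_mem _ ha hb
      | tmul f q =>
        induction mem_span_mon A f using Submodule.span_induction with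
        | mem f hf => obtain ⟨e, rfl⟩ := hf; exact ⟨Finsupp.single e q, by simp⟩
        | zero => simp
        | add a b _ _ ha hb => rw [add_tmul]; exact Submodule.add_mem _ ha hb
        | smul a f _ hf => rw [← smul_tmul']; exact Submodule.smul_mem _ a hf
    obtain ⟨ξ, hξ⟩ := key
    refine ⟨ξ.support, ξ, ?_⟩
    rw [← hξ, Finsupp.lsum_apply]
    rfl
  -- choose independent monomials
  let t₀k : MvPolynomial (Fin n) k := MvPolynomial.map φ t₀
  let w : Ef → (Fin r → MvPolynomial (Fin n) k) ⧸ W := fun e =>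
    Submodule.Quotient.mk (t₀k • mon k e.1)
  obtain ⟨ι, ia, hia, hspan, hLIw⟩ := exists_linearIndependent' k w
  haveI : Fintype ι := Fintype.ofInjective ia hia
  -- coefficientwise retraction to κ
  obtain ⟨r₀, hr₀⟩ := (Algebra.linearMap κ k).exists_leftInverse_of_injective
    (LinearMap.ker_eq_bot.2 (algebraMap κ k).injective)
  let rr : k →ₗ[κ] k := (Algebra.linearMap κ k) ∘ₗ r₀
  have rr_mem : ∀ c, rr c ∈ κ := fun c => (r₀ c).2
  have rr_fix : ∀ c ∈ κ, rr c = c := fun c hc => by
    show ((r₀ c : κ) : k) = c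
    exact congrArg Subtype.val (LinearMap.congr_fun hr₀ ⟨c, hc⟩)
  have rr_mul : ∀ c d, d ∈ κ → rr (c * d) = rr c * d := fun c d hd => by
    have := rr.map_smul (⟨d, hd⟩ : κ) c
    rw [Subfield.smul_def, Subfield.smul_def, smul_eq_mul, smul_eq_mul] at this
    rw [mul_comm c d, this, mul_comm]
  have hφκ : ∀ a ∈ A₀, φ a ∈ κ := by
    intro a ha
    have : φ a ∈ (Subring.closure (φ '' (S : Set A)) : Subring k) := by
      rw [← RingHom.map_closure]; exact ⟨a, ha, rfl⟩
    exact Subfield.subring_closure_le _ this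
  have hmonA₀ : ∀ (e : Idx n r) i m, (mon A e i).coeff m ∈ A₀ := by
    intro e i m
    by_cases hi : i = e.1
    · subst hi
      simp only [mon, Pi.single_eq_same, MvPolynomial.coeff_monomial]
      split <;> [exact A₀.one_mem; exact A₀.zero_mem]
    · simp [mon, hi, A₀.zero_mem]
  have ht₀A₀ : ∀ m, t₀.coeff m ∈ A₀ := by
    intro m
    by_cases hm : m ∈ t₀.support
    · exact Subring.subset_closure (Finset.mem_union_left _ (Finset.mem_image_of_mem _ hm))
    · rw [MvPolynomial.notMem_support_iff.1 hm]; exact A₀.zero_mem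
  have hρA₀ : ∀ f i m, (ρ f i).coeff m ∈ A₀ := by
    intro f i m
    by_cases hm : m ∈ (ρ f i).support
    · refine Subring.subset_closure (Finset.mem_union_right _ ?_)
      exact Finset.mem_biUnion.2 ⟨f, Finset.mem_univ _, Finset.mem_biUnion.2
        ⟨i, Finset.mem_univ _, Finset.mem_image_of_mem _ hm⟩⟩
    · rw [MvPolynomial.notMem_support_iff.1 hm]; exact A₀.zero_mem
  have hmulA₀ : ∀ (g : MvPolynomial (Fin n) A) (v : Fin r → MvPolynomial (Fin n) A),
      (∀ m, g.coeff m ∈ A₀) → (∀ i m, (v i).coeff m ∈ A₀) → ∀ i m, ((g • v) i).coeff m ∈ A₀ := by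
    intro g v hg hv i m
    rw [Pi.smul_apply, smul_eq_mul, MvPolynomial.coeff_mul]
    exact A₀.sum_mem fun x _ => A₀.mul_mem (hg _) (hv i _)
  let rP : MvPolynomial (Fin n) k → MvPolynomial (Fin n) k := fun g =>
    ∑ m ∈ g.support, monomial m (rr (g.coeff m))
  have coeff_rP : ∀ g m, (rP g).coeff m = rr (g.coeff m) := by
    intro g m
    simp only [rP, MvPolynomial.coeff_sum, MvPolynomial.coeff_monomial, Finset.sum_ite_eq',
      MvPolynomial.mem_support_iff]
    split_ifs with h0
    · rfl
    · rw [not_not.1 h0, map_zero]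
  -- the relations, with coefficients in A₀
  have hrel : ∀ e : Ef, ∃ (d : A) (b : ι → A), φ d ≠ 0 ∧
      (d • π (t₀ • mon A e.1) - ∑ c, b c • π (t₀ • mon A (ia c).1)) ∈
        Ideal.span (G : Set A) • (⊤ : Submodule A N) := by
    intro e
    have hmem : w e ∈ Submodule.span k (Set.range (w ∘ ia)) := by
      rw [hspan]; exact Submodule.subset_span ⟨e, rfl⟩
    obtain ⟨β, hβ⟩ := (Submodule.mem_span_range_iff_exists_fun k).1 hmem
    have hW : t₀k • mon k e.1 - ∑ c, β c • (t₀k • mon k (ia c).1) ∈ W := by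
      rw [← Submodule.Quotient.mk_eq_zero, Submodule.Quotient.mk_sub,
        sub_eq_zero, ← Submodule.mkQ_apply, ← Submodule.mkQ_apply, map_sum]
      simp only [Submodule.mkQ_apply, Submodule.Quotient.mk_smul]
      exact hβ.symm
    rw [show W = Submodule.span _ (R₀ : Set _) from hWR, Submodule.mem_span_finset'] at hW
    obtain ⟨γ, hγ⟩ := hW
    -- apply the retraction coefficientwise
    have hred : ∀ f : {f // f ∈ R₀}, (f : Fin r → MvPolynomial (Fin n) k) = red (ρ f) :=
      fun f => (hρ f).symm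
    have hvκ : ∀ (e' : Idx n r) i m, ((t₀k • mon k e') i).coeff m ∈ κ := by
      intro e' i m
      rw [show t₀k • mon k e' = red (t₀ • mon A e') by rw [red_smul, red_mon]]
      simp only [red, MvPolynomial.coeff_map]
      exact hφκ _ (hmulA₀ _ _ ht₀A₀ (hmonA₀ e') i m)
    have eq1 : ∀ i m, ((t₀k • mon k e.1) i).coeff m =
        ∑ c, rr (β c) * ((t₀k • mon k (ia c).1) i).coeff m +
          ∑ f : R₀, (rP (γ f) * MvPolynomial.map φ (ρ f i)).coeff m := by
      intro i m
      have h0 : ((t₀k • mon k e.1) i).coeff m =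
        ∑ c, β c * ((t₀k • mon k (ia c).1) i).coeff m +
          ∑ f : R₀, (γ f * MvPolynomial.map φ (ρ f i)).coeff m := by
        have := congrArg (fun v => (v i).coeff m) hγ
        simp only [Finset.sum_apply, Pi.smul_apply, Pi.sub_apply, smul_eq_mul,
          MvPolynomial.coeff_sum, MvPolynomial.coeff_sub, MvPolynomial.coeff_smul] at this
        simp only [Pi.smul_apply, smul_eq_mul]
        have e2 : ∀ f : R₀, (γ f * (f : Fin r → MvPolynomial (Fin n) k) i).coeff m =
            (γ f * MvPolynomial.map φ (ρ f i)).coeff m := fun f => by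
          rw [show (f : Fin r → MvPolynomial (Fin n) k) = red (ρ f) from hred f]
        simp only [e2] at this
        rw [this]
        ring
      have h1 := congrArg rr h0
      rw [map_add, map_sum, map_sum, rr_fix _ (hvκ _ _ _)] at h1
      rw [h1]
      congr 1
      · exact Finset.sum_congr rfl fun c _ => rr_mul _ _ (hvκ _ _ _)
      · refine Finset.sum_congr rfl fun f _ => ?_
        rw [MvPolynomial.coeff_mul, MvPolynomial.coeff_mul, map_sum]
        refine Finset.sum_congr rfl fun z _ => ?_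
        rw [coeff_rP, rr_mul]
        rw [MvPolynomial.coeff_map]
        exact hφκ _ (hρA₀ f i _)
    -- clear denominators
    choose ab db hab hdb hdb0 heqb using fun c => hκlift _ (rr_mem (β c))
    choose ag dg hag hdg hdg0 heqg using fun z : (Σ f : R₀, (γ f).support) =>
      hκlift _ (rr_mem ((γ z.1).coeff z.2.1))
    let D : A := (∏ c, db c) * ∏ z, dg z
    have hD : D ∈ A₀ := A₀.mul_mem (A₀.prod_mem fun c _ => hdb c) (A₀.prod_mem fun z _ => hdg z)
    have hD0 : φ D ≠ 0 := by
      simp only [D, map_mul, map_prod]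
      exact mul_ne_zero (Finset.prod_ne_zero_iff.2 fun c _ => hdb0 c)
        (Finset.prod_ne_zero_iff.2 fun z _ => hdg0 z)
    let b' : ι → A := fun c => ((∏ z, dg z) * ∏ c' ∈ Finset.univ.erase c, db c') * ab c
    have hb' : ∀ c, b' c ∈ A₀ ∧ φ (b' c) = φ D * rr (β c) := by
      intro c
      refine ⟨A₀.mul_mem (A₀.mul_mem (A₀.prod_mem fun z _ => hdg z)
        (A₀.prod_mem fun c' _ => hdb c')) (hab c), ?_⟩
      have hp : (∏ c', db c') = db c * ∏ c' ∈ Finset.univ.erase c, db c' :=
        (Finset.mul_prod_erase _ _ (Finset.mem_univ c)).symm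
      simp only [b', D, hp, map_mul, ← heqb c]
      ring
    let g' : (Σ f : R₀, (γ f).support) → A := fun z =>
      ((∏ c, db c) * ∏ z' ∈ Finset.univ.erase z, dg z') * ag z
    have hg' : ∀ z, g' z ∈ A₀ ∧ φ (g' z) = φ D * rr ((γ z.1).coeff z.2.1) := by
      intro z
      refine ⟨A₀.mul_mem (A₀.mul_mem (A₀.prod_mem fun c _ => hdb c)
        (A₀.prod_mem fun z' _ => hdg z')) (hag z), ?_⟩
      have hp : (∏ z', dg z') = dg z * ∏ z' ∈ Finset.univ.erase z, dg z' :=
        (Finset.mul_prod_erase _ _ (Finset.mem_univ z)).symm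
      simp only [g', D, hp, map_mul, ← heqg z]
      ring
    let Gp : R₀ → MvPolynomial (Fin n) A := fun f =>
      ∑ m : (γ f).support, monomial m.1 (g' ⟨f, m⟩)
    have hGpA₀ : ∀ f m, (Gp f).coeff m ∈ A₀ := by
      intro f m
      simp only [Gp, MvPolynomial.coeff_sum, MvPolynomial.coeff_monomial]
      refine A₀.sum_mem fun z _ => ?_
      split <;> [exact (hg' _).1; exact A₀.zero_mem]
    have hGpφ : ∀ f, MvPolynomial.map φ (Gp f) = MvPolynomial.C (φ D) * rP (γ f) := by
      intro f
      simp only [Gp, map_sum, MvPolynomial.map_monomial, rP, Finset.mul_sum,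
        MvPolynomial.C_mul_monomial]
      rw [← Finset.sum_coe_sort (γ f).support]
      exact Finset.sum_congr rfl fun m _ => by rw [(hg' ⟨f, m⟩).2]
    refine ⟨D, b', hD0, ?_⟩
    let f₀ : Fin r → MvPolynomial (Fin n) A :=
      D • (t₀ • mon A e.1) - ∑ c, b' c • (t₀ • mon A (ia c).1) - ∑ f, Gp f • ρ f
    have hf₀ : ∀ i m, (f₀ i).coeff m ∈ A₀ ∧ φ ((f₀ i).coeff m) = 0 := by
      intro i m
      constructor
      · simp only [f₀, Pi.sub_apply, Finset.sum_apply, Pi.smul_apply,
          MvPolynomial.coeff_sub, MvPolynomial.coeff_sum, MvPolynomial.coeff_smul, smul_eq_mul]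
        refine A₀.sub_mem (A₀.sub_mem (A₀.mul_mem hD (hmulA₀ _ _ ht₀A₀ (hmonA₀ _) i m))
          (A₀.sum_mem fun c _ => ?_)) (A₀.sum_mem fun f _ => hmulA₀ _ _ (hGpA₀ f) (hρA₀ f) i m)
        exact A₀.mul_mem (hb' c).1 (hmulA₀ _ _ ht₀A₀ (hmonA₀ _) i m)
      · rw [← MvPolynomial.coeff_map]
        have : MvPolynomial.map φ (f₀ i) = MvPolynomial.C (φ D) * ((t₀k • mon k e.1) i)
            - ∑ c, MvPolynomial.C (φ D * rr (β c)) * ((t₀k • mon k (ia c).1) i)
            - ∑ f, (MvPolynomial.C (φ D) * rP (γ f)) * MvPolynomial.map φ (ρ f i) := by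
          have e3 : ∀ e' : Idx n r, MvPolynomial.map φ ((t₀ • mon A e') i) = (t₀k • mon k e') i := fun e' =>
            congrFun ((red_smul t₀ _).trans (by rw [red_mon])) i
          simp only [f₀, Pi.sub_apply, Finset.sum_apply, map_sub, map_sum]
          refine congrArg₂ (· - ·) (congrArg₂ (· - ·) ?_ (Finset.sum_congr rfl fun c _ => ?_))
            (Finset.sum_congr rfl fun f _ => ?_)
          · rw [Pi.smul_apply, MvPolynomial.smul_eq_C_mul, map_mul, MvPolynomial.map_C, e3]
          · rw [Pi.smul_apply, MvPolynomial.smul_eq_C_mul, map_mul, MvPolynomial.map_C, e3,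
              (hb' c).2]
          · rw [Pi.smul_apply, smul_eq_mul, map_mul, hGpφ]
        rw [this]
        simp only [MvPolynomial.coeff_sub, MvPolynomial.coeff_sum, MvPolynomial.coeff_C_mul,
          mul_assoc]
        rw [eq1 i m, mul_add, Finset.mul_sum, Finset.mul_sum]
        ring
    have hker : π (∑ f, Gp f • ρ f) = 0 := by
      rw [map_sum]
      exact Finset.sum_eq_zero fun f _ => by rw [map_smul, LinearMap.mem_ker.1 (hρker f), smul_zero]
    have heq : D • π (t₀ • mon A e.1) - ∑ c, b' c • π (t₀ • mon A (ia c).1) = πA f₀ := by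
      simp only [f₀, πA, LinearMap.restrictScalars_apply]
      rw [map_sub, hker, sub_zero, map_sub, map_sum]
      simp only [LinearMap.map_smul_of_tower]
    rw [heq]
    refine Submodule.map_smul'' (Ideal.span (G : Set A)) ⊤ πA |>.trans_le
      (Submodule.smul_mono le_rfl le_top) (Submodule.mem_map_of_mem ?_)
    rw [← Finset.univ_sum_single f₀]
    refine Submodule.sum_mem _ fun i _ => ?_
    rw [MvPolynomial.as_sum (f₀ i), ← LinearMap.coe_single (R := A), map_sum]
    refine Submodule.sum_mem _ fun m _ => ?_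
    rw [show monomial m ((f₀ i).coeff m) =
      (f₀ i).coeff m • monomial m (1 : A) by simp [MvPolynomial.smul_monomial], map_smul]
    exact Submodule.smul_mem_smul (hA₀p _ (hf₀ i m).1 (hf₀ i m).2) Submodule.mem_top
  choose d b hd hb using hrel
  -- kill terms
  have hkillN : ∀ z ∈ Ideal.span (G : Set A) • (⊤ : Submodule A N), ∀ q : Q₁, z ⊗ₜ[A] q = 0 := by
    intro z hz q
    induction hz using Submodule.smul_induction_on' with
    | smul a ha y _ => rw [smul_tmul, hQ₁ a ha, tmul_zero]
    | add y _ z _ hy hz => rw [add_tmul, hy, hz, add_zero]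
  let D : A := ∏ e, d e
  have hD : D ∉ p := fun hmem => by
    obtain ⟨e, -, he⟩ := (Ideal.IsPrime.prod_mem_iff).1 hmem
    exact hd e (Ideal.algebraMap_residueField_eq_zero.2 he)
  let q' : ι → Q₁ := fun c => ∑ e : Ef, ((∏ e' ∈ Finset.univ.erase e, d e') * b e c) • qf e.1
  have hmain : D • (E (t₀ * t)).rTensor Q₁ x₁ = ∑ c, π (t₀ • mon A (ia c).1) ⊗ₜ[A] q' c := by
    have e0 : (E (t₀ * t)).rTensor Q₁ x₁ = ∑ e : Ef, π (t₀ • mon A e.1) ⊗ₜ[A] qf e.1 := by
      rw [hEmul, LinearMap.rTensor_comp, LinearMap.comp_apply, ← hζ, hζ', map_sum, map_sum,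
        ← Finset.sum_coe_sort Ef]
      simp [E, πA, LinearMap.map_smul]
    rw [e0, Finset.smul_sum]
    have e1 : ∀ e : Ef, D • (π (t₀ • mon A e.1) ⊗ₜ[A] qf e.1) =
        ∑ c, π (t₀ • mon A (ia c).1) ⊗ₜ[A]
          (((∏ e' ∈ Finset.univ.erase e, d e') * b e c) • qf e.1) := by
      intro e
      have h2 := hkillN _ (hb e) (qf e.1)
      rw [sub_tmul, sub_eq_zero, sum_tmul] at h2
      rw [show D = (∏ e' ∈ Finset.univ.erase e, d e') * d e from
        (Finset.prod_erase_mul _ _ (Finset.mem_univ e)).symm, mul_smul, smul_tmul', h2,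
        Finset.smul_sum]
      refine Finset.sum_congr rfl fun c _ => ?_
      rw [tmul_smul, ← smul_tmul', mul_smul]
    rw [Finset.sum_congr rfl fun e _ => e1 e, Finset.sum_comm]
    exact Finset.sum_congr rfl fun c _ => (tmul_sum _ _ _).symm
  -- the inverse of t₀ * t
  have hbij : Function.Bijective (E (t₀ * t)) := hT _ (T.mul_mem ht₀ ht)
  let Einv : N →ₗ[A] N := (LinearEquiv.ofBijective _ hbij).symm.toLinearMap
  have hEinv : Einv ∘ₗ E (t₀ * t) = LinearMap.id := by
    ext z; exact (LinearEquiv.ofBijective _ hbij).symm_apply_apply z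
  have hEinv' : E (t₀ * t) ∘ₗ Einv = LinearMap.id := by
    ext z; exact (LinearEquiv.ofBijective _ hbij).apply_symm_apply z
  have hmain' : D • x₁ = ∑ c, Einv (π (t₀ • mon A (ia c).1)) ⊗ₜ[A] q' c := by
    have := congrArg (Einv.rTensor Q₁) hmain
    rw [map_smul, ← LinearMap.comp_apply, ← LinearMap.rTensor_comp, hEinv,
      LinearMap.rTensor_id, LinearMap.id_apply, map_sum] at this
    simpa using this
  let v : ι → M := fun c => u (Einv (π (t₀ • mon A (ia c).1)))
  have hv : ∑ c, v c ⊗ₜ[A] q' c = 0 := by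
    have := congrArg (u.rTensor Q₁) hmain'
    rw [map_smul, hux₁, smul_zero, map_sum] at this
    simpa [v] using this.symm
  have hLI : LinearIndependent k (fun c => (1 : k) ⊗ₜ[A] v c) := by
    rw [Fintype.linearIndependent_iff]
    intro α hα
    obtain ⟨⟨dd, hdd⟩, hda⟩ := IsLocalization.exist_integer_multiples_of_finite
      (M := nonZeroDivisors (A ⧸ p)) α
    choose a₀ ha₀ using hda
    choose a₁ ha₁ using fun c => Ideal.Quotient.mk_surjective (a₀ c)
    obtain ⟨d₁, rfl⟩ := Ideal.Quotient.mk_surjective dd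
    have hd₁ : φ d₁ ≠ 0 := fun h0 => nonZeroDivisors.ne_zero hdd
      (Ideal.Quotient.eq_zero_iff_mem.2 (Ideal.algebraMap_residueField_eq_zero.1 h0))
    have hαa : ∀ c, φ (a₁ c) = φ d₁ * α c := fun c => by
      have := ha₀ c
      rw [← ha₁ c] at this
      exact (IsScalarTower.algebraMap_apply A (A ⧸ p) p.ResidueField (a₁ c)).trans
        (this.trans ((Algebra.smul_def _ _).trans (congrArg (· * α c)
          (IsScalarTower.algebraMap_apply A (A ⧸ p) p.ResidueField d₁).symm)))
    let g : Fin r → MvPolynomial (Fin n) A := ∑ c, a₁ c • mon A (ia c).1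
    have h1 : (1 : k) ⊗ₜ[A] u (Einv (π (t₀ • g))) = 0 := by
      have e4 : u (Einv (π (t₀ • g))) = ∑ c, a₁ c • v c := by
        simp only [g, v, Finset.smul_sum, map_sum]
        refine Finset.sum_congr rfl fun c _ => ?_
        rw [smul_comm t₀ (a₁ c), LinearMap.map_smul_of_tower, map_smul, map_smul]
      rw [e4, tmul_sum]
      calc ∑ c, (1 : k) ⊗ₜ[A] (a₁ c • v c) = φ d₁ • ∑ c, α c • ((1 : k) ⊗ₜ[A] v c) := by
            rw [Finset.smul_sum]
            refine Finset.sum_congr rfl fun c _ => ?_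
            rw [tmul_smul, ← algebraMap_smul k (a₁ c), smul_smul]
            exact congrArg (· • ((1 : k) ⊗ₜ[A] v c)) (hαa c)
        _ = 0 := by rw [hα, smul_zero]
    have h2 : (1 : k) ⊗ₜ[A] Einv (π (t₀ • g)) = 0 := h p (by simpa using h1)
    have h3 : (1 : k) ⊗ₜ[A] π (t₀ • g) = 0 := by
      have := congrArg ((E (t₀ * t)).lTensor k) h2
      rw [map_zero, LinearMap.lTensor_tmul, ← LinearMap.comp_apply (E _) Einv, hEinv'] at this
      exact this
    have h4 : π (t₀ • g) ∈ p • (⊤ : Submodule A N) := mem_smul_top_of_one_tmul_eq_zero p h3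
    have h5 : ∀ z ∈ p • (⊤ : Submodule A N), ∃ s ∈ T, ∃ f, s • z = π f ∧ red f = 0 := by
      intro z hz
      induction hz using Submodule.smul_induction_on' with
      | smul a ha y _ =>
        obtain ⟨s, hs, f, hf⟩ := hgen y
        refine ⟨s, hs, a • f, by rw [LinearMap.map_smul_of_tower, ← hf, smul_comm], ?_⟩
        rw [red_smulA, show φ a = 0 from Ideal.algebraMap_residueField_eq_zero.2 ha, zero_smul]
      | add y _ z _ hy hz =>
        obtain ⟨s, hs, f, hf, hf0⟩ := hy
        obtain ⟨s', hs', f', hf', hf0'⟩ := hz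
        refine ⟨s * s', T.mul_mem hs hs', s' • f + s • f', ?_, ?_⟩
        · rw [map_add, map_smul, map_smul, ← hf, ← hf', smul_smul, smul_smul, mul_comm s' s,
            smul_add]
        · rw [red_add, red_smul, red_smul, hf0, hf0', smul_zero, smul_zero, add_zero]
    obtain ⟨s, hs, f, hf, hf0⟩ := h5 _ h4
    have h6 : MvPolynomial.map φ s • (t₀k • red g) ∈ W := by
      refine Submodule.subset_span ⟨s • (t₀ • g) - f, ?_, ?_⟩
      · rw [SetLike.mem_coe, LinearMap.mem_ker, map_sub, map_smul, hf, sub_self]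
      · rw [sub_eq_add_neg, red_add, red_smul, red_smul]
        have : red (-f) = 0 := by
          rw [← neg_one_smul A f, red_smulA, hf0, smul_zero]
        rw [this, add_zero]
    have h7 : red g ∈ L := ⟨s * t₀, T.mul_mem hs ht₀, by rw [map_mul, mul_smul]; exact h6⟩
    have h8 := ht₀L _ h7
    have h9 : ∑ c, (φ d₁ * α c) • (w (ia c)) = 0 := by
      rw [← Submodule.Quotient.mk_eq_zero W] at h8
      rw [show red g = ∑ c, (φ d₁ * α c) • mon k (ia c).1 by
        simp only [g, red_sum, red_smulA, red_mon, hαa], Finset.smul_sum, ← Submodule.mkQ_apply,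
        map_sum] at h8
      rw [← h8]
      refine Finset.sum_congr rfl fun c _ => ?_
      simp only [w, Submodule.mkQ_apply]
      rw [← Submodule.Quotient.mk_smul, smul_comm]
    intro c
    have h10 := Fintype.linearIndependent_iff.1 hLIw (fun c => φ d₁ * α c) h9 c
    exact (mul_eq_zero.1 h10).resolve_left hd₁
  obtain ⟨s, hs, hsq⟩ := exists_smul_eq_zero_of_sum_tmul_eq_zero p v q' hLI hv
  refine hgood₁ (s * D) (fun hmem => ((‹p.IsPrime›).mem_or_mem hmem).elim hs hD) ?_
  rw [mul_smul, hmain', Finset.smul_sum]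
  exact Finset.sum_eq_zero fun c _ => by rw [← tmul_smul, hsq c, tmul_zero]

end Main

end Groth.Agent.UnivInjFib
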