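import Mathlib
import Groth.Agent.UnivInjFib.Basic

/-!
Universal injectivity from fibres, for finite modules over a localization of a finite type algebra.
-/

namespace Groth.Agent.UnivInjFib

open TensorProduct

universe u

/-- A map from a flat module, finite over a localization of a finite type algebra, to a flat module
is universally injective if it is injective on all fibres. -/
theorem univInj_of_fibres {A B B' : Type u} [CommRing A] [CommRing B] [CommRing B'] [Algebra A B]
    [Algebra B B'] [Algebra A B'] [IsScalarTower A B B'] [Algebra.FiniteType A B]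
    (T : Submonoid B) [IsLocalization T B']
    {N : Type u} [AddCommGroup N] [Module B' N] [Module A N] [IsScalarTower A B' N]
    [Module.Finite B' N] [Module.Flat A N]
    {M : Type u} [AddCommGroup M] [Module A M] [Module.Flat A M] (u : N →ₗ[A] M)
    (h : ∀ (p : Ideal A) [p.IsPrime], Function.Injective (u.lTensor p.ResidueField))
    (Q : Type u) [AddCommGroup Q] [Module A Q] :
    Function.Injective (u.rTensor Q) ∧ Function.Injective (u.lTensor Q) := by
  classical
  suffices h1 : Function.Injective (u.rTensor Q) by
    refine ⟨h1, ?_⟩
    have e : u.lTensor Q = (TensorProduct.comm A M Q).toLinearMap ∘ₗ u.rTensor Q ∘ₗ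
        (TensorProduct.comm A Q N).toLinearMap := by
      ext; simp
    rw [e]
    exact (TensorProduct.comm A M Q).injective.comp
      (h1.comp (TensorProduct.comm A Q N).injective)
  obtain ⟨n, q, hq⟩ := Algebra.FiniteType.iff_quotient_mvPolynomial''.1
    (inferInstance : Algebra.FiniteType A B)
  let P := MvPolynomial (Fin n) A
  let ψ : P →ₐ[A] B' := (IsScalarTower.toAlgHom A B B').comp q
  letI : Module P N := Module.compHom N ψ.toRingHom
  haveI : IsScalarTower A P N := ⟨fun a x z => by
    show ψ (a • x) • z = a • (ψ x • z)
    rw [map_smul, smul_assoc]⟩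
  obtain ⟨r, g, hg⟩ := Module.Finite.exists_fin (R := B') (M := N)
  let π : (Fin r → P) →ₗ[P] N := Fintype.linearCombination P g
  refine univInj_aux π (T.comap q.toRingHom) ?_ ?_ u h Q
  · intro t ht
    have hu : IsUnit (algebraMap B B' (q t)) := IsLocalization.map_units B' ⟨q t, ht⟩
    exact (hu.smul_bijective : Function.Bijective fun x : N => algebraMap B B' (q t) • x)
  · intro x
    have hx : x ∈ Submodule.span B' (Set.range g) := hg ▸ Submodule.mem_top
    obtain ⟨c, hc⟩ := (Submodule.mem_span_range_iff_exists_fun B').1 hx
    obtain ⟨⟨b, hb⟩, hcb⟩ := IsLocalization.exist_integer_multiples_of_finite (M := T) c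
    choose d hd using hcb
    obtain ⟨t, rfl⟩ := hq b
    choose f hf using fun i => hq (d i)
    refine ⟨t, hb, f, ?_⟩
    show algebraMap B B' (q t) • x = π f
    rw [← hc, Finset.smul_sum, Fintype.linearCombination_apply]
    refine Finset.sum_congr rfl fun i _ => ?_
    show _ = algebraMap B B' (q (f i)) • g i
    rw [hf i, hd i, smul_smul]
    congr 1
    exact (Algebra.smul_def (q t) (c i)).symm

end Groth.Agent.UnivInjFib
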