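import Mathlib
import Groth.Prelude.Def_FlatCA
import Groth.Agent.UnivInjFib.Localized

/-!
A flat algebra covering the associated primes of a fibre module is injective on that fibre.
-/

namespace Groth.Agent.UnivInjFib

open TensorProduct

universe u

attribute [local instance] Algebra.TensorProduct.rightAlgebra

variable {R S S' : Type u} [CommRing R] [CommRing S] [CommRing S'] [Algebra R S] [Algebra S S']
  [Algebra R S'] [IsScalarTower R S S'] [Algebra.FiniteType R S] [Module.Flat S S']
  (N : Type u) [AddCommGroup N] [Module S N] [Module R N] [IsScalarTower R S N]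

omit [Algebra S S'] [Algebra R S'] [IsScalarTower R S S'] [Algebra.FiniteType R S] [Module.Flat S S'] in
variable {N} in
/-- The inverse comparison map from the fibre module to `κ(p) ⊗ N`. -/
noncomputable def fibreToTensor (p : Ideal R) [p.IsPrime] :
    p.Fiber S ⊗[S] N →+ p.ResidueField ⊗[R] N :=
  TensorProduct.liftAddHom
    { toFun := fun f => ⟨⟨fun n =>
        ((LinearMap.lsmul S N).flip n |>.restrictScalars R).lTensor p.ResidueField f,
          by simp [show ((LinearMap.lsmul S N).flip (0 : N)).restrictScalars R = 0 by ext; simp]⟩,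
          fun a b => by
            show ((LinearMap.lsmul S N).flip (a + b) |>.restrictScalars R).lTensor p.ResidueField f = _ + _
            rw [show ((LinearMap.lsmul S N).flip (a + b)).restrictScalars R =
              ((LinearMap.lsmul S N).flip a).restrictScalars R +
              ((LinearMap.lsmul S N).flip b).restrictScalars R by ext; simp,
              LinearMap.lTensor_add, LinearMap.add_apply]
            ⟩
      map_zero' := by ext n; simp
      map_add' := fun a b => by ext n; simp }
    (fun s f n => by
      show ((LinearMap.lsmul S N).flip n |>.restrictScalars R).lTensor p.ResidueField (s • f) =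
        ((LinearMap.lsmul S N).flip (s • n) |>.restrictScalars R).lTensor p.ResidueField f
      induction f using TensorProduct.induction_on with
      | zero => simp
      | tmul c x =>
        rw [show s • (c ⊗ₜ[R] x : p.Fiber S) = c ⊗ₜ[R] (s * x) by
          rw [Algebra.smul_def, Algebra.TensorProduct.right_algebraMap_apply,
            Algebra.TensorProduct.tmul_mul_tmul, one_mul]]
        simp [LinearMap.lTensor_tmul, smul_comm s x, mul_smul]
      | add a b ha hb => rw [smul_add, map_add, ha, hb, map_add])

omit [Algebra S S'] [Algebra R S'] [IsScalarTower R S S'] [Algebra.FiniteType R S] [Module.Flat S S'] in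
theorem fibreToTensor_tmul (p : Ideal R) [p.IsPrime] (c : p.ResidueField) (x : S) (n : N) :
    fibreToTensor p ((c ⊗ₜ[R] x) ⊗ₜ[S] n) = c ⊗ₜ[R] (x • n) := rfl

/-- If every prime of `S` associated to the fibre of `N` at `p` is in the image of `Spec S'`,
then `N → S' ⊗ N` is injective on the fibre at `p`. -/
theorem injective_lTensor_mk (p : Ideal R) [p.IsPrime]
    (h : ∀ (q : Ideal S) [q.IsPrime] [q.LiesOver p],
      FlatCA.fiberIdeal p q ∈ associatedPrimes (p.Fiber S) (FlatCA.fiberMod p S N) →
      ∃ q' : Ideal S', q'.IsPrime ∧ q'.comap (algebraMap S S') = q) :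
    Function.Injective (((TensorProduct.mk S S' N 1).restrictScalars R).lTensor p.ResidueField) := by
  classical
  let k := p.ResidueField
  let F := p.Fiber S
  -- the comparison with `F ⊗ N`
  let Φ : k ⊗[R] N →ₗ[R] F ⊗[S] N := TensorProduct.lift
    { toFun := fun c => ((TensorProduct.mk S F N) (c ⊗ₜ[R] (1 : S))).restrictScalars R
      map_add' := fun a b => by ext n; simp [add_tmul]
      map_smul' := fun r a => by ext n; simp [smul_tmul', F] }
  let Ψ : F ⊗[S] N →+ k ⊗[R] N := fibreToTensor p
  have hΨ : ∀ z, Ψ (Φ z) = z := by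
    intro z
    induction z with
    | zero => simp
    | tmul c n => exact (fibreToTensor_tmul N p c 1 n).trans (by rw [one_smul])
    | add a b ha hb => rw [map_add, map_add, ha, hb]
  let Θ : k ⊗[R] (S' ⊗[S] N) →ₗ[R] S' ⊗[S] (F ⊗[S] N) := TensorProduct.lift
    { toFun := fun c => (LinearMap.lTensor S'
        ((TensorProduct.mk S F N) (c ⊗ₜ[R] (1 : S)))).restrictScalars R
      map_add' := fun a b => by ext z; simp [add_tmul, map_add, LinearMap.lTensor_add]
      map_smul' := fun r a => by
        apply LinearMap.ext
        intro z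
        induction z with
        | zero => simp
        | tmul s n =>
          simp only [LinearMap.coe_restrictScalars, LinearMap.lTensor_tmul, TensorProduct.mk_apply,
            RingHom.id_apply, LinearMap.smul_apply]
          rw [← tmul_smul r s (((a ⊗ₜ[R] (1 : S)) : F) ⊗ₜ[S] n), smul_tmul']
          rfl
        | add y z hy hz => simp only [map_add, smul_add, hy, hz] }
  rw [injective_iff_map_eq_zero]
  intro z hz
  by_contra hne
  have hm : (1 : S') ⊗ₜ[S] Φ z = 0 := by
    have key : ∀ w : k ⊗[R] N, Θ (((TensorProduct.mk S S' N 1).restrictScalars R).lTensor k w) =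
        (1 : S') ⊗ₜ[S] Φ w := by
      intro w
      induction w with
      | zero => simp
      | tmul c n => simp [Θ, Φ]
      | add a b ha hb => rw [map_add, map_add, ha, hb, map_add, tmul_add]
    rw [← key, hz, map_zero]
  have hΦ : Φ z ≠ 0 := fun h0 => hne (by rw [← hΨ z, h0, map_zero])
  haveI : IsNoetherianRing F := Algebra.FiniteType.isNoetherianRing k F
  -- find a multiple of `Φ z` with prime annihilator
  obtain ⟨y, hy, hyann⟩ : ∃ y : F ⊗[S] N, (1 : S') ⊗ₜ[S] y = 0 ∧
      ∃ P : Ideal F, IsAssociatedPrime P (F ⊗[S] N) ∧ ∀ f : F, f ∈ P ↔ f • y = 0 := by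
    let K : Submodule F (F ⊗[S] N) :=
      { carrier := {y | (1 : S') ⊗ₜ[S] y = 0}
        zero_mem' := tmul_zero _ _
        add_mem' := fun {a b} (ha hb) => by
          show (1 : S') ⊗ₜ[S] (a + b) = 0
          rw [tmul_add, ha, hb, add_zero]
        smul_mem' := fun c y (hy : (1 : S') ⊗ₜ[S] y = 0) => by
          show (1 : S') ⊗ₜ[S] (c • y) = 0
          have := congrArg (LinearMap.lTensor S'
            ((LinearMap.lsmul F (F ⊗[S] N) c).restrictScalars S)) hy
          simpa using this }
    obtain ⟨P, hP, -⟩ := exists_le_isAssociatedPrime_of_isNoetherianRing F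
      (⟨Φ z, hm⟩ : K) (fun h0 => hΦ (congrArg Subtype.val h0))
    obtain ⟨-, y, hy⟩ := isAssociatedPrime_iff.1 hP
    refine ⟨y.1, y.2, P, hP.map_of_injective (f := K.subtype) Subtype.val_injective, fun f => ?_⟩
    rw [hy, Submodule.mem_colon_singleton, Submodule.mem_bot]
    exact ⟨fun h => congrArg Subtype.val h, fun h => Subtype.ext h⟩
  obtain ⟨P, hP, hPy⟩ := hyann
  haveI := hP.isPrime
  let q : Ideal S := P.comap (Algebra.TensorProduct.includeRight (R := R) (A := k) (B := S)).toRingHom
  haveI : q.IsPrime := Ideal.comap_isPrime _ _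
  haveI : q.LiesOver p := by
    constructor
    haveI : P.LiesOver p := inferInstance
    rw [Ideal.over_def P p]
    ext r
    show algebraMap R F r ∈ P ↔ (Algebra.TensorProduct.includeRight
      (R := R) (A := k) (B := S)).toRingHom (algebraMap R S r) ∈ P
    rw [AlgHom.toRingHom_eq_coe, RingHom.coe_coe, AlgHom.commutes]
  have hfi : FlatCA.fiberIdeal p q = P := by
    refine le_antisymm Ideal.map_comap_le fun f hf => ?_
    obtain ⟨r, hr, s, e⟩ := Ideal.Fiber.exists_smul_eq_one_tmul p f
    have hu : IsUnit (algebraMap R F r) := by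
      rw [IsScalarTower.algebraMap_apply R k F]
      exact (isUnit_iff_ne_zero.2 fun h0 =>
        hr (Ideal.algebraMap_residueField_eq_zero.1 h0)).map _
    rw [Algebra.smul_def] at e
    have hs : s ∈ q := by
      show (1 : k) ⊗ₜ[R] s ∈ P
      rw [← e]
      exact P.mul_mem_left _ hf
    have : algebraMap R F r * f ∈ FlatCA.fiberIdeal p q := by
      rw [e]
      exact Ideal.mem_map_of_mem _ hs
    exact (Ideal.unit_mul_mem_iff_mem _ hu).1 this
  obtain ⟨q', hq', hq'q⟩ := h q (by rw [hfi]; exact hP)
  -- `S/q → F ⊗ N`, `1 ↦ y`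
  have hqy : ∀ s : S, s ∈ q ↔ s • y = 0 := by
    intro s
    show (1 : k) ⊗ₜ[R] s ∈ P ↔ _
    rw [hPy, ← algebraMap_smul F s y, Algebra.TensorProduct.right_algebraMap_apply]
  let g : (S ⧸ q) →ₗ[S] F ⊗[S] N := q.liftQ (LinearMap.toSpanSingleton S _ y) fun s hs =>
    LinearMap.mem_ker.2 ((hqy s).1 hs)
  have hg : Function.Injective g := by
    rw [injective_iff_map_eq_zero]
    intro a ha
    obtain ⟨s, rfl⟩ := Submodule.Quotient.mk_surjective _ a
    exact (Submodule.Quotient.mk_eq_zero _).2 ((hqy s).2 ha)
  have h1 : (1 : S') ⊗ₜ[S] (Submodule.Quotient.mk (p := q) 1) = 0 := by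
    apply Module.Flat.lTensor_preserves_injective_linearMap (M := S') g hg
    rw [map_zero, LinearMap.lTensor_tmul]
    show (1 : S') ⊗ₜ[S] ((1 : S) • y) = 0
    rw [one_smul]
    exact hy
  have h2 := congrArg (TensorProduct.tensorQuotEquivQuotSMul S' q) h1
  rw [map_zero] at h2
  erw [TensorProduct.tensorQuotEquivQuotSMul_tmul_mk] at h2
  rw [one_smul, Submodule.Quotient.mk_eq_zero, Ideal.smul_top_eq_map,
    Submodule.restrictScalars_mem] at h2
  exact hq'.ne_top ((Ideal.eq_top_iff_one _).2 (Ideal.map_le_iff_le_comap.2 hq'q.ge h2))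

omit [Algebra.FiniteType R S] in
/-- The base change along a flat algebra of a module flat over the base is flat over the base. -/
theorem flat_baseChange [Module.Flat R N] : Module.Flat R (S' ⊗[S] N) := by
  rw [Module.Flat.iff_lTensor_preserves_injective_linearMap]
  intro P P' _ _ _ _ f hf
  have h1 : Function.Injective (LinearMap.lTensor S'
      (TensorProduct.AlgebraTensorModule.lTensor S N f)) :=
    Module.Flat.lTensor_preserves_injective_linearMap _
      (Module.Flat.lTensor_preserves_injective_linearMap (M := N) f hf)
  let e := TensorProduct.AlgebraTensorModule.assoc R S S S' N P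
  let e' := TensorProduct.AlgebraTensorModule.assoc R S S S' N P'
  have : ∀ z, e' (LinearMap.lTensor (S' ⊗[S] N) f z) =
      LinearMap.lTensor S' (TensorProduct.AlgebraTensorModule.lTensor S N f) (e z) := by
    intro z
    induction z with
    | zero => simp
    | tmul a b =>
      induction a with
      | zero => simp
      | tmul s n => simp [e, e']
      | add x y hx hy => simp only [add_tmul, map_add, hx, hy]
    | add x y hx hy => simp only [map_add, hx, hy]
  intro x y hxy
  exact e.injective (h1 (by rw [← this, ← this, hxy]))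

/-- A flat algebra covering all points associated to the fibres of a flat module gives a
universally injective map. -/
theorem univInj_mk [Module.Finite S N] [Module.Flat R N]
    (h : ∀ (p : Ideal R) (q : Ideal S) [p.IsPrime] [q.IsPrime] [q.LiesOver p],
      FlatCA.fiberIdeal p q ∈ associatedPrimes (p.Fiber S) (FlatCA.fiberMod p S N) →
      ∃ q' : Ideal S', q'.IsPrime ∧ q'.comap (algebraMap S S') = q)
    (Q : Type u) [AddCommGroup Q] [Module R Q] :
    Function.Injective (((TensorProduct.mk S S' N 1).restrictScalars R).lTensor Q) := by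
  haveI := flat_baseChange (R := R) (S := S) (S' := S') N
  haveI : IsLocalization (⊥ : Submonoid S) S := IsLocalization.self (fun x hx => by
    rw [Submonoid.mem_bot] at hx
    exact hx ▸ isUnit_one)
  have hfib : ∀ (p : Ideal R) [p.IsPrime],
      Function.Injective (((TensorProduct.mk S S' N 1).restrictScalars R).lTensor p.ResidueField) :=
    fun p _ => injective_lTensor_mk (S' := S') N p (fun q _ _ => h p q)
  have := univInj_of_fibres (A := R) (B := S) (B' := S) (⊥ : Submonoid S) (N := N)
    (M := S' ⊗[S] N) ((TensorProduct.mk S S' N 1).restrictScalars R) hfib Q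
  exact this.2

end Groth.Agent.UnivInjFib
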