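import Mathlib
import Groth.Prelude.Def_FlatCA
import Groth.Agent.UnivInjFib.Fibre
import Groth.Agent.UnivInjFib.Slice

/-!
Consequences for local homomorphisms: localization at elements regular on the closed fibre, and
flat covers of the points associated to the closed fibre.
-/

namespace Groth.Agent.UnivInjFib

open TensorProduct IsLocalRing

universe u

attribute [local instance] Algebra.TensorProduct.rightAlgebra

variable {R S : Type u} [CommRing R] [IsLocalRing R] [CommRing S] [IsLocalRing S] [Algebra R S]
  [IsLocalHom (algebraMap R S)] (hS : FlatCA.EssFinitePresentation R S)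
  (N : Type u) [AddCommGroup N] [Module S N] [Module R N] [IsScalarTower R S N]
  [Module.FinitePresentation S N] [Module.Flat R N]

omit [IsLocalRing S] [IsLocalHom (algebraMap R S)] [Module.FinitePresentation S N] in
theorem toFiber_eq_zero_iff (n : N) :
    ((1 : (maximalIdeal R).Fiber S) ⊗ₜ[S] n) = 0 ↔ n ∈ maximalIdeal R • (⊤ : Submodule R N) := by
  constructor
  · intro h
    apply mem_smul_top_of_one_tmul_eq_zero
    have := congrArg (fibreToTensor (maximalIdeal R)) h
    rwa [map_zero, Algebra.TensorProduct.one_def, fibreToTensor_tmul, one_smul] at this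
  · intro h
    induction h using Submodule.smul_induction_on' with
    | smul r hr y _ =>
      rw [← algebraMap_smul S r y, ← smul_tmul, Algebra.smul_def, mul_one,
        Algebra.TensorProduct.right_algebraMap_apply, Algebra.algebraMap_eq_smul_one, tmul_smul,
        smul_tmul', ← Algebra.algebraMap_eq_smul_one, Ideal.algebraMap_residueField_eq_zero.2 hr,
        zero_tmul, zero_tmul]
    | add x _ y _ hx hy => rw [tmul_add, hx, hy, add_zero]

include hS in
/-- Multiplication by an element of `nzdFiber` is universally injective. -/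
theorem univInj_smul_of_mem {s : S} (hs : s ∈ FlatCA.nzdFiber R S N) :
    FlatCA.UnivInj R ((LinearMap.lsmul S N s).restrictScalars R) := by
  intro Q _ _
  refine univInj_smul hS s (fun n hn => ?_) Q
  rw [← toFiber_eq_zero_iff (S := S)] at hn ⊢
  rw [tmul_smul] at hn
  exact hs _ hn

include hS in
/-- The localization at `nzdFiber` is universally injective. -/
theorem univInj_mkLinearMap :
    FlatCA.UnivInj R
      ((LocalizedModule.mkLinearMap (FlatCA.nzdFiber R S N) N).restrictScalars R) := by
  intro Q _ _
  rw [injective_iff_map_eq_zero]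
  intro z hz
  let g := LocalizedModule.mkLinearMap (FlatCA.nzdFiber R S N) N
  let c := TensorProduct.comm R Q N
  have e : ∀ z, TensorProduct.AlgebraTensorModule.rTensor R Q g (c z) =
      TensorProduct.comm R Q _ ((g.restrictScalars R).lTensor Q z) := by
    intro z
    induction z with
    | zero => simp
    | tmul q n => simp [c]
    | add x y hx hy => simp only [map_add, hx, hy]
  have h0 : TensorProduct.AlgebraTensorModule.rTensor R Q g (c z) = 0 := by
    rw [e, hz, map_zero]
  obtain ⟨⟨t, ht⟩, htz⟩ := (IsLocalizedModule.eq_zero_iff (FlatCA.nzdFiber R S N)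
    (TensorProduct.AlgebraTensorModule.rTensor R Q g)).1 h0
  apply univInj_smul_of_mem hS N ht Q
  rw [map_zero]
  apply c.injective
  rw [map_zero]
  have e2 : ∀ z, c (((LinearMap.lsmul S N t).restrictScalars R).lTensor Q z) = t • c z := by
    intro z
    induction z with
    | zero => simp
    | tmul q n => simp [c, smul_tmul']
    | add x y hx hy => simp only [map_add, smul_add, hx, hy]
  rw [e2]
  exact htz

include hS in
/-- A flat algebra covering the points associated to the closed fibre. -/
theorem univInj_mk_closedFibre {S' : Type u} [CommRing S'] [Algebra S S'] [Algebra R S']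
    [IsScalarTower R S S'] [Module.Flat S S']
    (h : ∀ q ∈ associatedPrimes S (FlatCA.fiberMod (maximalIdeal R) S N),
      ∃ q' : Ideal S', q'.IsPrime ∧ q'.comap (algebraMap S S') = q) :
    FlatCA.UnivInj R ((TensorProduct.mk S S' N 1).restrictScalars R) := by
  classical
  intro Q _ _
  rw [injective_iff_map_eq_zero]
  intro z hz
  let p := maximalIdeal R
  let F := p.Fiber S
  let V := F ⊗[S] N
  haveI : Algebra.EssFiniteType R S := by
    obtain ⟨S₀, _, _, _, _, M₀, hfp, hloc⟩ := hS
    haveI := Algebra.EssFiniteType.of_isLocalization S M₀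
    exact Algebra.EssFiniteType.comp R S₀ S
  haveI : IsNoetherianRing F := Algebra.EssFiniteType.isNoetherianRing p.ResidueField F
  -- move to `W = N ⊗ Q`, an `S`-module
  let c := TensorProduct.comm R Q N
  let w : N ⊗[R] Q := c z
  have h1 : (1 : S') ⊗ₜ[S] w = 0 := by
    let e := (TensorProduct.AlgebraTensorModule.assoc R S S S' N Q)
    have key : ∀ z, e (TensorProduct.comm R Q (S' ⊗[S] N)
        (((TensorProduct.mk S S' N 1).restrictScalars R).lTensor Q z)) = (1 : S') ⊗ₜ[S] c z := by
      intro z
      induction z with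
      | zero => simp
      | tmul q n => simp [e, c]
      | add x y hx hy => simp only [map_add, tmul_add, hx, hy]
    rw [show (1 : S') ⊗ₜ[S] w = _ from (key z).symm, hz, map_zero, map_zero]
  let J : Ideal S := Ideal.torsionOf S _ w
  have hJ : J.map (algebraMap S S') = ⊤ := by
    let g : (S ⧸ J) →ₗ[S] N ⊗[R] Q := J.liftQ (LinearMap.toSpanSingleton S _ w) le_rfl
    have hg : Function.Injective g := by
      rw [injective_iff_map_eq_zero]
      intro a ha
      obtain ⟨s, rfl⟩ := Submodule.Quotient.mk_surjective _ a
      exact (Submodule.Quotient.mk_eq_zero _).2 ha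
    have h2 : (1 : S') ⊗ₜ[S] (Submodule.Quotient.mk (p := J) 1) = 0 := by
      apply Module.Flat.lTensor_preserves_injective_linearMap (M := S') g hg
      rw [map_zero, LinearMap.lTensor_tmul]
      show (1 : S') ⊗ₜ[S] ((1 : S) • w) = 0
      rw [one_smul, h1]
    have h3 := congrArg (TensorProduct.tensorQuotEquivQuotSMul S' J) h2
    rw [map_zero] at h3
    erw [TensorProduct.tensorQuotEquivQuotSMul_tmul_mk] at h3
    rw [one_smul, Submodule.Quotient.mk_eq_zero, Ideal.smul_top_eq_map,
      Submodule.restrictScalars_mem] at h3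
    exact (Ideal.eq_top_iff_one _).2 h3
  obtain ⟨t, htJ, ht⟩ : ∃ t ∈ J, t ∈ FlatCA.nzdFiber R S N := by
    by_contra hne
    push Not at hne
    let A : Finset (Ideal F) := (associatedPrimes.finite F V).toFinset
    have hsub : (J : Set S) ⊆ ⋃ P ∈ (A : Set (Ideal F)),
        ((P.comap (algebraMap S F) : Ideal S) : Set S) := by
      intro s hsJ
      obtain ⟨v, hv0, hv⟩ : ∃ v : V, s • v = 0 ∧ v ≠ 0 := by
        by_contra hcon
        push Not at hcon
        exact hne s hsJ fun v hv => hcon v hv
      have : algebraMap S F s ∈ ⋃ P ∈ associatedPrimes F V, (P : Set F) := by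
        rw [biUnion_associatedPrimes_eq_zero_divisors]
        exact ⟨v, hv, by rw [algebraMap_smul]; exact hv0⟩
      obtain ⟨P, hP, hsP⟩ := Set.mem_iUnion₂.1 this
      exact Set.mem_iUnion₂.2 ⟨P, by simpa [A] using hP, hsP⟩
    obtain ⟨P, hPA, hJP⟩ : ∃ P ∈ A, J ≤ P.comap (algebraMap S F) := by
      refine (Ideal.subset_union_prime (⊥ : Ideal F) ⊥ fun P hP _ _ => ?_).1 hsub
      haveI : P.IsPrime := ((associatedPrimes.finite F V).mem_toFinset.1 hP).1
      exact Ideal.comap_isPrime _ _
    have hP : IsAssociatedPrime P V := (associatedPrimes.finite F V).mem_toFinset.1 hPA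
    have hq : P.comap (algebraMap S F) ∈ associatedPrimes S V := by
      haveI := hP.1
      refine ⟨Ideal.comap_isPrime _ _, ?_⟩
      obtain ⟨x, hx⟩ := hP.2
      refine ⟨x, ?_⟩
      rw [hx, Ideal.comap_radical]
      congr 1
    obtain ⟨q', hq', hq'q⟩ := h _ hq
    refine hq'.ne_top (top_le_iff.1 (hJ ▸ Ideal.map_le_iff_le_comap.2 ?_))
    rw [hq'q]
    exact hJP
  apply univInj_smul_of_mem hS N ht Q
  rw [map_zero]
  apply c.injective
  rw [map_zero]
  have e2 : ∀ z, c (((LinearMap.lsmul S N t).restrictScalars R).lTensor Q z) = t • c z := by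
    intro z
    induction z with
    | zero => simp
    | tmul q n => simp [c, smul_tmul']
    | add x y hx hy => simp only [map_add, smul_add, hx, hy]
  rw [e2]
  exact htJ

end Groth.Agent.UnivInjFib
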